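import Groth.Agent.SurfRR.Divisor

/-!
# The sequence of a sum of two divisors
-/

set_option autoImplicit false
set_option linter.style.haveILetI false
set_option linter.unusedSectionVars false
set_option backward.isDefEq.respectTransparency false
set_option backward.isDefEq.respectTransparency.types false
set_option maxHeartbeats 1000000

universe u

open CategoryTheory CategoryTheory.Limits AlgebraicGeometry TopologicalSpace
open scoped Groth.Agent.H23.PicMul

noncomputable section

namespace Groth.Agent.SurfRR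

variable {X : Scheme.{u}}

/-- The projection between the structure sheaves of two nested closed subschemes. -/
def qmap {R J : X.IdealSheafData} (h : R ≤ J) : ClSub.quotMod R ⟶ ClSub.quotMod J :=
  Cofork.IsColimit.desc
    (show IsColimit (CokernelCofork.ofπ (ClSub.toSubscheme R) (kernel.condition (ClSub.toSubscheme R))) from
      (IntSym.shortExact_toSubscheme R).gIsCokernel)
    (ClSub.toSubscheme J) (by rw [zero_comp]; exact IntSym.QuotTensor.ι_toSubscheme_of_le h)

theorem toSubscheme_qmap {R J : X.IdealSheafData} (h : R ≤ J) :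
    ClSub.toSubscheme R ≫ qmap h = ClSub.toSubscheme J :=
  Cofork.IsColimit.π_desc' (show IsColimit (CokernelCofork.ofπ (ClSub.toSubscheme R) (kernel.condition (ClSub.toSubscheme R))) from
      (IntSym.shortExact_toSubscheme R).gIsCokernel) (ClSub.toSubscheme J) (by rw [zero_comp]; exact IntSym.QuotTensor.ι_toSubscheme_of_le h)

theorem qmap_comp {R J K : X.IdealSheafData} (h : R ≤ J) (h' : J ≤ K) :
    qmap h ≫ qmap h' = qmap (h.trans h') := by
  haveI := CurvePoint.epi_toSubscheme R
  rw [← cancel_epi (ClSub.toSubscheme R), ← Category.assoc, toSubscheme_qmap, toSubscheme_qmap, toSubscheme_qmap]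

theorem qmap_self {R : X.IdealSheafData} (h : R ≤ R) : qmap h = 𝟙 _ := by
  haveI := CurvePoint.epi_toSubscheme R
  rw [← cancel_epi (ClSub.toSubscheme R), toSubscheme_qmap, Category.comp_id]

instance {R J : X.IdealSheafData} (h : R ≤ J) : Epi (qmap h) := by
  haveI := CurvePoint.epi_toSubscheme J
  exact epi_of_epi_fac (toSubscheme_qmap h)

open DepthTwist in
/-- The product map identifies the tensor product with the ideal of the product. -/
theorem exists_mulIso (I J : X.IdealSheafData) (hI : PicF.IsInvertible (ClSub.idealMod I)) :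
    ∃ l : CohB1.tensorMod (ClSub.idealMod I) (ClSub.idealMod J) ≅ ClSub.idealMod (I * J),
      l.hom ≫ ClSub.idealModι (I * J) = mulHom I J := by
  haveI := isEquivalence_tensorLeft hI
  haveI : Mono (ClSub.idealModι I) := inferInstanceAs (Mono (kernel.ι (ClSub.toSubscheme I)))
  haveI : Mono (ClSub.idealModι J) := inferInstanceAs (Mono (kernel.ι (ClSub.toSubscheme J)))
  haveI : Mono (mulHom I J) := mono_comp _ _
  have hrange : ∀ x : X, LinearMap.range ((DerSch.stalkFunctor X x).map (mulHom I J)).hom =
      LinearMap.range ((DerSch.stalkFunctor X x).map (ClSub.idealModι (I * J))).hom := fun x => by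
    obtain ⟨_, ⟨W, hW, rfl⟩, hx, -⟩ := X.isBasis_affineOpens.exists_subset_of_mem_open
      (Set.mem_univ x) isOpen_univ
    rw [range_mulHom I J ⟨W, hW⟩ hx, range_idealModι (I * J) ⟨W, hW⟩ hx]
  have hzero : mulHom I J ≫ ClSub.toSubscheme (I * J) = 0 := by
    refine hom_ext_stalk _ _ fun x => ?_
    rw [Functor.map_comp, Functor.map_zero]
    ext v
    obtain ⟨w, hw⟩ := (hrange x).le (LinearMap.mem_range_self _ v)
    change (DerSch.stalkFunctor X x).map (ClSub.toSubscheme (I * J))
      ((DerSch.stalkFunctor X x).map (mulHom I J) v) = 0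
    rw [show (DerSch.stalkFunctor X x).map (mulHom I J) v =
      (DerSch.stalkFunctor X x).map (ClSub.idealModι (I * J)) w from hw.symm, ← ConcreteCategory.comp_apply,
      ← Functor.map_comp, ClSub.idealModι, kernel.condition, Functor.map_zero]
    rfl
  let l : CohB1.tensorMod (ClSub.idealMod I) (ClSub.idealMod J) ⟶ ClSub.idealMod (I * J) :=
    kernel.lift _ (mulHom I J) hzero
  have hl : l ≫ ClSub.idealModι (I * J) = mulHom I J := kernel.lift_ι _ _ _
  haveI : Mono (ClSub.idealModι (I * J)) := inferInstanceAs (Mono (kernel.ι (ClSub.toSubscheme (I * J))))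
  haveI : Mono (l ≫ ClSub.idealModι (I * J)) := hl.symm ▸ inferInstance
  haveI : Mono l := mono_of_mono l (ClSub.idealModι (I * J))
  have hsurj : ∀ x : X, Function.Surjective ((DerSch.stalkFunctor X x).map l) := fun x w => by
    obtain ⟨v, hv⟩ := (hrange x).ge (LinearMap.mem_range_self
      ((DerSch.stalkFunctor X x).map (ClSub.idealModι (I * J))).hom w)
    refine ⟨v, (ModuleCat.mono_iff_injective ((DerSch.stalkFunctor X x).map (ClSub.idealModι (I * J)))).1
      inferInstance ?_⟩
    rw [← ConcreteCategory.comp_apply, ← Functor.map_comp, hl]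
    exact hv
  haveI : Epi l := by
    refine Preadditive.epi_of_isZero_cokernel l (CurveCohLib.isZero_of_subsingleton_stalks fun x => ?_)
    let Φ := DerSch.stalkFunctor X x
    haveI : Epi (Φ.map l) := (ModuleCat.epi_iff_surjective _).2 (hsurj x)
    have hz : IsZero (Φ.obj (cokernel l)) := by
      refine IsZero.of_iso (isZero_cokernel_of_epi (Φ.map l)) (PreservesCokernel.iso Φ l)
    exact ModuleCat.subsingleton_of_isZero hz
  haveI : IsIso l := isIso_of_mono_of_epi l
  exact ⟨asIso l, hl⟩

/-- `0 → I_J ⊗ O_C → O_{J + C} → O_J → 0`. -/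
theorem exists_shortExact_mul (J C : X.IdealSheafData) (hJ : PicF.IsInvertible (ClSub.idealMod J)) (h : J * C ≤ J) :
    ∃ (A : X.Modules) (a : A ⟶ ClSub.quotMod (J * C)) (w : a ≫ qmap h = 0),
      (ShortComplex.mk a (qmap h) w).ShortExact ∧
      Nonempty (A ≅ CohB1.tensorMod (ClSub.idealMod J) (ClSub.quotMod C)) := by
  haveI := DepthTwist.isEquivalence_tensorLeft hJ
  haveI : Mono (ClSub.idealModι J) := inferInstanceAs (Mono (kernel.ι (ClSub.toSubscheme J)))
  let T := DCoh.tensorBi.obj (ClSub.idealMod J)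
  let f := T.map (ClSub.idealModι C) ≫ (KFlatLib.tensorUnitIso (ClSub.idealMod J)).hom
  let g := ClSub.idealModι J
  obtain ⟨l, hl⟩ := exists_mulIso J C hJ
  have hfg : f ≫ g = l.hom ≫ ClSub.idealModι (J * C) := by rw [hl, DepthTwist.mulHom, Category.assoc]
  -- the cokernels
  let e₁ : cokernel f ≅ T.obj (ClSub.quotMod C) :=
    cokernelCompIsIso (T.map (ClSub.idealModι C)) (KFlatLib.tensorUnitIso (ClSub.idealMod J)).hom ≪≫
      ((cokernelIsCokernel (T.map (ClSub.idealModι C))).coconePointUniqueUpToIso
        (((IntSym.shortExact_toSubscheme C).map_of_exact T).gIsCokernel))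
  let e₂ : cokernel (f ≫ g) ≅ ClSub.quotMod (J * C) :=
    cokernelIsoOfEq hfg ≪≫ cokernelEpiComp l.hom (ClSub.idealModι (J * C)) ≪≫
      (cokernelIsCokernel _).coconePointUniqueUpToIso (IntSym.shortExact_toSubscheme (J * C)).gIsCokernel
  have he₂ : cokernel.π (f ≫ g) ≫ e₂.hom = ClSub.toSubscheme (J * C) := by
    simp only [e₂, Iso.trans_hom, π_comp_cokernelIsoOfEq_hom_assoc]
    rw [cokernelEpiComp_hom, cokernel.π_desc_assoc]
    exact IsColimit.comp_coconePointUniqueUpToIso_hom (cokernelIsCokernel (ClSub.idealModι (J * C))) _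
      WalkingParallelPair.one
  let e₃ : cokernel g ≅ ClSub.quotMod J :=
    (cokernelIsCokernel g).coconePointUniqueUpToIso (IntSym.shortExact_toSubscheme J).gIsCokernel
  have he₃ : cokernel.π g ≫ e₃.hom = ClSub.toSubscheme J :=
    IsColimit.comp_coconePointUniqueUpToIso_hom (cokernelIsCokernel g) _ WalkingParallelPair.one
  let u : cokernel f ⟶ cokernel (f ≫ g) := cokernel.map f (f ≫ g) (𝟙 _) g (by rw [Category.id_comp])
  let v : cokernel (f ≫ g) ⟶ cokernel g := cokernel.map (f ≫ g) g f (𝟙 _) (by rw [Category.comp_id])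
  have huv : u ≫ v = 0 := by rw [← cancel_epi (cokernel.π f)]; simp [u, v]
  have hq : v ≫ e₃.hom = e₂.hom ≫ qmap h := by
    rw [← cancel_epi (cokernel.π (f ≫ g)), ← Category.assoc (cokernel.π (f ≫ g)) e₂.hom, he₂, toSubscheme_qmap,
      ← Category.assoc, cokernel.π_desc, Category.id_comp, he₃]
  haveI : Epi v := by
    haveI : Epi (cokernel.π (f ≫ g) ≫ v) := by rw [cokernel.π_desc, Category.id_comp]; infer_instance
    exact epi_of_epi (cokernel.π (f ≫ g)) v
  have hex : (ShortComplex.mk u v huv).Exact := (kernelCokernelCompSequence.snakeInput f g).L₃_exact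
  haveI : Mono u := by
    have hδ : kernelCokernelCompSequence.δ f g = 0 :=
      (IsZero.of_iso (isZero_zero _) (kernel.ofMono g)).eq_of_src _ _
    exact (kernelCokernelCompSequence.snakeInput f g).L₂'_exact.mono_g hδ
  have w : (u ≫ e₂.hom) ≫ qmap h = 0 := by rw [Category.assoc, ← hq, ← Category.assoc, huv, zero_comp]
  exact ⟨cokernel f, u ≫ e₂.hom, w,
    ShortComplex.shortExact_of_iso
      (ShortComplex.isoMk (S₁ := ShortComplex.mk u v huv) (S₂ := ShortComplex.mk (u ≫ e₂.hom) (qmap h) w)
        (Iso.refl _) e₂ e₃ (Category.id_comp _) hq.symm)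
      (ShortComplex.ShortExact.mk' hex ‹_› ‹_›), ⟨e₁⟩⟩

end Groth.Agent.SurfRR
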