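import Groth.Agent.IntSym.Effective
import Groth.Agent.ExtShX.SmDualAll
import Groth.Agent.ExtShX.ExtPowTop
import Groth.Agent.WedgeX.Dual
import Groth.Agent.SmoothCrit.Sch
import Groth.Agent.CurveCohLib.RegularCurve
import Groth.Agent.Snapper.DimVanish
import Groth.Agent.PnCoh.Chow.Proper

/-!
# Serre duality and Riemann–Roch on smooth projective surfaces
-/

set_option linter.style.haveILetI false
set_option linter.unusedSectionVars false
set_option backward.isDefEq.respectTransparency false
set_option backward.isDefEq.respectTransparency.types false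
set_option maxHeartbeats 1000000

universe u

open CategoryTheory CategoryTheory.Limits AlgebraicGeometry TopologicalSpace
open Groth.Agent.H23.PicMul
open scoped Groth.Agent.H23.PicMul

noncomputable section

namespace Groth.Agent.SurfRR

open Groth.Agent.IntSym

variable (k : Type u) [Field k] {X : Scheme.{u}} [X.Over (Spec (CommRingCat.of k))]
  [IsProper (X ↘ Spec (CommRingCat.of k))]

/-- The pairing of invertible modules. -/
def pair (L M : X.Modules) : ℤ := sym k [L, M] (Coh.structureModule X)

theorem intNum_two (hd : topologicalKrullDim X ≤ ((2 : ℕ) : WithBot ℕ∞)) {L M : X.Modules}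
    (hL : PicF.IsInvertible L) (hM : PicF.IsInvertible M) :
    FGA.intNum k X 2 ![L, M] (Coh.structureModule X) = pair k L M :=
  CurveSurface.intNum_pair k hd hL hM

theorem pair_comm {L M : X.Modules} (hL : PicF.IsInvertible L) (hM : PicF.IsInvertible M) :
    pair k L M = pair k M L :=
  sym_perm k (List.Perm.swap M L []) (List.forall_mem_cons.2 ⟨hL, List.forall_mem_singleton.2 hM⟩) _

theorem pair_congr {L L' M : X.Modules} (h : PicF.cl L = PicF.cl L') (hM : PicF.IsInvertible M) :
    pair k L M = pair k L' M :=
  sym_congr_head k (cl_eq_iff.1 h).some (List.forall_mem_singleton.2 hM) _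

theorem pair_tensor (hd : topologicalKrullDim X ≤ ((2 : ℕ) : WithBot ℕ∞)) {A B M : X.Modules}
    (hA : PicF.IsInvertible A) (hB : PicF.IsInvertible B) (hM : PicF.IsInvertible M) :
    pair k (CohB1.tensorMod A B) M = pair k A M + pair k B M := by
  haveI := CurveCohLib.isNoetherian_of_proper (k := k) (X := X)
  exact sym_tensor_head k hA hB (List.forall_mem_singleton.2 hM) (QCoh.isCoh_structureModule' (X := X))
    ((topologicalKrullDim_subspace_le X _).trans hd)

theorem pair_inverse (hd : topologicalKrullDim X ≤ ((2 : ℕ) : WithBot ℕ∞)) {L L' M : X.Modules}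
    (hL : PicF.IsInvertible L) (hL' : PicF.IsInvertible L') (u : CohB1.tensorMod L L' ≅ Coh.structureModule X)
    (hM : PicF.IsInvertible M) : pair k L' M = - pair k L M := by
  haveI := CurveCohLib.isNoetherian_of_proper (k := k) (X := X)
  exact sym_inverse_head k hL' hL (CurveTensor.commIso L' L ≪≫ u) (List.forall_mem_singleton.2 hM)
    (QCoh.isCoh_structureModule' (X := X)) ((topologicalKrullDim_subspace_le X _).trans hd)

theorem pair_pow (hd : topologicalKrullDim X ≤ ((2 : ℕ) : WithBot ℕ∞)) {L M : X.Modules}
    (hL : PicF.IsInvertible L) (hM : PicF.IsInvertible M) (n : ℕ) :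
    pair k (CohB1.tensorPow L n) M = n * pair k L M := by
  haveI := CurveCohLib.isNoetherian_of_proper (k := k) (X := X)
  exact sym_tensorPow_head k hL (List.forall_mem_singleton.2 hM) (QCoh.isCoh_structureModule' (X := X))
    ((topologicalKrullDim_subspace_le X _).trans hd) n

/-- The Euler characteristic is quadratic. -/
theorem euler_tensor {L M : X.Modules} (hM : PicF.IsInvertible M) :
    Curv2.euler k X (CohB1.tensorMod L M) =
      pair k L M + Curv2.euler k X L + Curv2.euler k X M - Curv2.euler k X (Coh.structureModule X) := by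
  have e₁ : CohB1.tensorMod (Coh.structureModule X) L ≅ L :=
    (CurveSurface.nonempty_unit_tensor L).some
  have e₂ : CohB1.tensorMod (Coh.structureModule X) M ≅ M :=
    (CurveSurface.nonempty_unit_tensor M).some
  have hl : Inv [M] := List.forall_mem_singleton.2 hM
  show _ = sym k [L, M] (Coh.structureModule X) + _ + _ - _
  rw [sym_cons, sym_iso k hl (show (AmpleVan.tw L).obj (Coh.structureModule X) ≅ L from e₁), sym_singleton,
    sym_singleton, CurveCohLib.euler_congr (k := k) e₂]
  ring

variable [IsIntegral X]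

include k in
/-- A smooth surface has relative dimension two. -/
theorem relDim [Smooth (X ↘ Spec (CommRingCat.of k))] (hdim : topologicalKrullDim X = ((2 : ℕ) : WithBot ℕ∞)) :
    SmoothOfRelativeDimension 2 (X ↘ Spec (CommRingCat.of k)) :=
  SmoothCrit.smoothOfRelativeDimension_dim (X ↘ Spec (CommRingCat.of k)) 2 hdim

include k in
/-- Regular surfaces over algebraically closed fields are smooth. -/
theorem smooth_of_regular [IsAlgClosed k] (hreg : ∀ x : X, IsRegularLocalRing (X.presheaf.stalk x)) :
    Smooth (X ↘ Spec (CommRingCat.of k)) :=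
  CurveCohLib.RegularCurve.smooth_of_regular k fun x _ => hreg x

variable [Smooth (X ↘ Spec (CommRingCat.of k))] (hdim : topologicalKrullDim X = ((2 : ℕ) : WithBot ℕ∞))
  (hproj : ∃ (n : ℕ) (ι : X ⟶ CohB1.ProjSpace n k), IsClosedImmersion ι ∧
    ι ≫ CohB1.ProjSpace.toSpec n k = X ↘ Spec (CommRingCat.of k))

include hdim in
/-- The canonical module exists. -/
theorem exists_canonical :
    ∃ W : X.Modules, ExtPow.IsExtPow 2 (Omega.sheaf (X ↘ Spec (CommRingCat.of k))) W := by
  haveI := relDim k hdim
  choose U hU s hs using fun x : X =>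
    ExtShX.SmFrame.exists_frame_relDim (X ↘ Spec (CommRingCat.of k)) 2 x
  obtain ⟨T, hT, -⟩ := ExtShX.TopExt.exists_isExtPow U s hs (OmegaUniv.isQCoh_omega _) hU
  exact ⟨T, hT⟩

include hdim hproj in
theorem isInvertible_canonical {W : X.Modules} (hW : ExtPow.IsExtPow 2 (Omega.sheaf (X ↘ Spec (CommRingCat.of k))) W) :
    PicF.IsInvertible W := by
  obtain ⟨n, ι, hι, hk⟩ := hproj
  haveI := hι
  haveI := relDim k hdim
  exact ExtShX.SmDual.isInvertible_top ι hk hW

include hdim hproj in
/-- Serre duality for invertible modules. -/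
theorem finrank_dual {W : X.Modules} (hW : ExtPow.IsExtPow 2 (Omega.sheaf (X ↘ Spec (CommRingCat.of k))) W)
    {L L' : X.Modules} (hL : PicF.IsInvertible L) (u : CohB1.tensorMod L L' ≅ Coh.structureModule X)
    {q : ℕ} (hq : q ≤ 2) :
    Module.finrank k (Coh.HH X L q) = Module.finrank k (Coh.HH X (CohB1.tensorMod W L') (2 - q)) := by
  obtain ⟨n, ι, hι, hk⟩ := hproj
  haveI := hι
  haveI := relDim k hdim
  haveI := CurveCohLib.isNoetherian_of_proper (k := k) (X := X)
  haveI : HasExt.{u} X.Modules := IsGrothendieckAbelian.hasExt _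
  obtain ⟨e⟩ := (ExtShX.SmDual.duality ι hk hW L (AmpleVan.isCoh_invertible hL) (2 - q)).1 (Nat.sub_le 2 q)
  obtain ⟨e'⟩ := PnDual.nonempty_ext_linearEquiv_HH (A := k) (H23.PullPush.isFinLocFree_of_isInvertible hL) W (2 - q)
  obtain ⟨c⟩ := WedgeX.nonempty_hom_invertible hL u W
  rw [show 2 - (2 - q) = q by omega] at e
  have h := (e.symm ≪≫ₗ e' ≪≫ₗ S2926.hhIso k c (2 - q)).finrank_eq
  rwa [Subspace.dual_finrank_eq] at h

include hdim in
theorem euler_three {M : X.Modules} (hM : Coh.IsQCoh M) :
    Curv2.euler k X M = (Module.finrank k (Coh.HH X M 0) : ℤ) - Module.finrank k (Coh.HH X M 1) +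
      Module.finrank k (Coh.HH X M 2) := by
  haveI := CurveCohLib.isNoetherian_of_proper (k := k) (X := X)
  haveI : X.IsSeparated := AmpleVan.isSeparated_of_proper (A := k)
  rw [CurveCohLib.euler_eq_sum (k := k) (N := 3) fun i hi =>
    Snapper.subsingleton_HH_of_dim_le hdim.le hM (by omega)]
  simp [Finset.sum_range_succ, sub_eq_add_neg]

include hdim hproj in
theorem euler_dual {W : X.Modules} (hW : ExtPow.IsExtPow 2 (Omega.sheaf (X ↘ Spec (CommRingCat.of k))) W)
    {L L' : X.Modules} (hL : PicF.IsInvertible L) (hL' : PicF.IsInvertible L')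
    (u : CohB1.tensorMod L L' ≅ Coh.structureModule X) :
    Curv2.euler k X L = Curv2.euler k X (CohB1.tensorMod W L') := by
  haveI := CurveCohLib.isNoetherian_of_proper (k := k) (X := X)
  rw [euler_three k hdim (AmpleVan.isCoh_invertible hL).1,
    euler_three k hdim (AmpleVan.isCoh_invertible (InvX.isInvertible_tensorMod (isInvertible_canonical k hdim hproj hW) hL')).1,
    finrank_dual k hdim hproj hW hL u (q := 0) (by norm_num), finrank_dual k hdim hproj hW hL u (q := 1) (by norm_num),
    finrank_dual k hdim hproj hW hL u (q := 2) le_rfl]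
  show (Module.finrank k (Coh.HH X _ 2) : ℤ) - Module.finrank k (Coh.HH X _ 1) + Module.finrank k (Coh.HH X _ 0) = _
  ring

include hdim hproj in
/-- Riemann–Roch. -/
theorem riemann_roch {W : X.Modules} (hW : ExtPow.IsExtPow 2 (Omega.sheaf (X ↘ Spec (CommRingCat.of k))) W)
    {L : X.Modules} (hL : PicF.IsInvertible L) :
    2 * Curv2.euler k X L = pair k L L - pair k L W + 2 * Curv2.euler k X (Coh.structureModule X) := by
  haveI := CurveCohLib.isNoetherian_of_proper (k := k) (X := X)
  have hWi := isInvertible_canonical k hdim hproj hW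
  obtain ⟨L', hL', ⟨u⟩⟩ := H23.PicInv.exists_inverse hL
  have hO := InvX.isInvertible_structureModule (X := X)
  have uO : CohB1.tensorMod (Coh.structureModule X) (Coh.structureModule X) ≅ Coh.structureModule X :=
    (CurveSurface.nonempty_unit_tensor (Coh.structureModule X)).some
  have h1 := euler_dual k hdim hproj hW hL hL' u
  have h2 := euler_dual k hdim hproj hW hO hO uO
  obtain ⟨eW⟩ : Nonempty (CohB1.tensorMod W (Coh.structureModule X) ≅ W) := cl_eq_iff.1 (by
    rw [cl_tensor, ← H23.PicMul.one_def, mul_one])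
  rw [CurveCohLib.euler_congr (k := k) eW] at h2
  have h3 := euler_tensor k (L := W) hL'
  have h4 := euler_tensor k (L := L) hL'
  rw [CurveCohLib.euler_congr (k := k) u] at h4
  have h5 : pair k W L' = - pair k W L := by
    rw [pair_comm k hWi hL', pair_inverse k hdim.le hL hL' u hWi, pair_comm k hL hWi]
  have h6 : pair k L L' = - pair k L L := by
    rw [pair_comm k hL hL', pair_inverse k hdim.le hL hL' u hL]
  have h7 := pair_comm k hL hWi
  linarith

end Groth.Agent.SurfRR
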