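import Groth.Agent.SurfRR.Nef
import Groth.Agent.DepthTwist.IdealPow
import Groth.Agent.ParShLib.ResStalk

/-!
# Effective divisors on surfaces
-/

set_option autoImplicit false
set_option linter.style.haveILetI false
set_option linter.unusedSectionVars false
set_option backward.isDefEq.respectTransparency false
set_option backward.isDefEq.respectTransparency.types false
set_option maxHeartbeats 800000

universe u

open CategoryTheory CategoryTheory.Limits AlgebraicGeometry TopologicalSpace

noncomputable section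

open Groth.Agent.IntSym
open scoped Groth.Agent.H23.PicMul

namespace Groth.Agent.SurfRR
open BigMono (NefC)

variable (k : Type u) [Field k] {X : Scheme.{u}} [X.Over (Spec (CommRingCat.of k))]
  [IsProper (X ↘ Spec (CommRingCat.of k))] [IsIntegral X]
  (hdim : topologicalKrullDim X = ((2 : ℕ) : WithBot ℕ∞))

omit [X.Over (Spec (CommRingCat.of k))] [IsProper (X ↘ Spec (CommRingCat.of k))] [IsIntegral X] in
theorem support_quotMod (D : X.IdealSheafData) : CohB1.support (ClSub.quotMod D) = (D.support : Set X) := by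
  rw [← Scheme.IdealSheafData.range_subschemeι D]
  refine Set.Subset.antisymm (QCoh.support_push_subset D.subschemeι QCoh.isQCoh_structureModule) ?_
  rintro _ ⟨z, rfl⟩ hz
  haveI : Subsingleton (((Coh.push D.subschemeι).obj (Coh.structureModule D.subscheme)).presheaf.stalk (D.subschemeι z)) := hz
  have h := H23.ClosedPushLen.length_stalk D.subschemeι (Coh.structureModule D.subscheme) z
  rw [Module.length_eq_zero, H23.ClosedPushLen.length_structureModule] at h
  exact absurd (Module.length_eq_zero_iff.1 h.symm) (not_subsingleton _)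

include k hdim in
theorem dim_quotMod_le {D : X.IdealSheafData} (hD : BlowUp.IsEffCartierIdeal D) :
    topologicalKrullDim ↥(CohB1.support (ClSub.quotMod D)) ≤ ((1 : ℕ) : WithBot ℕ∞) := by
  haveI := CurveCohLib.isNoetherian_of_proper (k := k) (X := X)
  rw [support_quotMod]
  refine HilbPoly.le_of_lt_succ ((H23.TopDim.dim_lt_of_ssubset (X := X) ?_ D.support.isClosed ?_).trans_le hdim.le)
  · rw [hdim]
    exact WithBot.coe_inj.not.2 (ENat.natCast_ne_top _)
  · exact fun h => ParShLib.genericPoint_notMem_support (I := D) hD (show genericPoint ↥X ∈ (D.support : Set X) from h ▸ Set.mem_univ _)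

include hdim in
/-- Nonempty effective divisors have positive degree for ample classes. -/
theorem sym_pos_divisor {D : X.IdealSheafData} (hD : BlowUp.IsEffCartierIdeal D) (hne : D ≠ ⊤)
    {H : X.Modules} (hH : CohB1.IsAmple H) : 0 < sym k [H] (ClSub.quotMod D) := by
  haveI := CurveCohLib.isNoetherian_of_proper (k := k) (X := X)
  obtain ⟨x, hx⟩ : ∃ x, x ∈ (D.support : Set X) := by
    by_contra h
    push Not at h
    exact hne ((Scheme.IdealSheafData.support_eq_bot_iff _).1 (SetLike.coe_injective (Set.eq_empty_of_forall_notMem h)))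
  obtain ⟨ξ, hξD, -, hξ⟩ := AffCompl.exists_curve_point k hdim hD hx
  have hd1 : topologicalKrullDim ↥(CohB1.support (ClSub.quotMod D)) = ((1 : ℕ) : WithBot ℕ∞) := by
    refine le_antisymm (dim_quotMod_le k hdim hD) ?_
    rw [support_quotMod]
    have h1 := VarDim.topologicalKrullDim_closure_singleton (X ↘ Spec (CommRingCat.of k)) ξ
    rw [hξ] at h1
    exact h1.ge.trans (H23.TopDim.dim_le_dim_of_subset
      (D.support.isClosed.closure_subset_iff.2 (Set.singleton_subset_iff.2 hξD)))
  have h := (HilbPoly.mult_nonneg_and_pos k hH 1 _ (ParShLib.isCoh_quotMod D) hd1.le).2 hd1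
  rwa [← IntSym.sym_replicate] at h

include hdim in
theorem pair_idealMod_mul {D E : X.IdealSheafData} (hD : BlowUp.IsEffCartierIdeal D) (hE : BlowUp.IsEffCartierIdeal E)
    {M : X.Modules} (hM : PicF.IsInvertible M) :
    pair k (ClSub.idealMod (D * E)) M = pair k (ClSub.idealMod D) M + pair k (ClSub.idealMod E) M := by
  have hI := (S8914.result D).2 hD
  rw [← pair_congr k (H23.PicMul.cl_eq_iff.2 (DepthTwist.nonempty_idealMod_mul_iso D E hI)) hM,
    pair_tensor k hdim.le hI ((S8914.result E).2 hE) hM]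

variable [Smooth (X ↘ Spec (CommRingCat.of k))]

include hdim in
/-- Nef and big effective divisors are 1-connected. -/
theorem pair_pos_of_nef_big {D₁ D₂ : X.IdealSheafData} (h₁ : BlowUp.IsEffCartierIdeal D₁)
    (h₂ : BlowUp.IsEffCartierIdeal D₂) (hne₁ : D₁ ≠ ⊤) (hne₂ : D₂ ≠ ⊤) {N : X.Modules} (hN : PicF.IsInvertible N)
    (u : CohB1.tensorMod N (ClSub.idealMod (D₁ * D₂)) ≅ Coh.structureModule X) (hnef : NefC k N)
    (hpos : 0 < pair k N N) : 0 < pair k (ClSub.idealMod D₁) (ClSub.idealMod D₂) := by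
  haveI := CurveCohLib.isNoetherian_of_proper (k := k) (X := X)
  obtain ⟨H, hH⟩ := exists_ample k hdim (regular_of_smooth k)
  have hproj := exists_proj_smooth k hdim
  have hI₁ := (S8914.result D₁).2 h₁
  have hI₂ := (S8914.result D₂).2 h₂
  obtain ⟨e12⟩ := DepthTwist.nonempty_idealMod_mul_iso D₁ D₂ hI₁
  have hI : PicF.IsInvertible (ClSub.idealMod (D₁ * D₂)) :=
    VolLib.isInvertible_of_inverse hN (CurveTensor.commIso _ _ ≪≫ u)
  have hinv : ∀ {P : X.Modules}, PicF.IsInvertible P →
      pair k N P = - (pair k (ClSub.idealMod D₁) P + pair k (ClSub.idealMod D₂) P) := fun hP => by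
    rw [← pair_idealMod_mul k hdim h₁ h₂ hP]
    exact pair_inverse k hdim.le hI hN (CurveTensor.commIso _ _ ≪≫ u) hP
  have hn₁ : pair k (ClSub.idealMod D₁) N ≤ 0 := by
    rw [pair_idealMod k hdim h₁ hN]
    have := nef_sym_nonneg k hN hnef hH (ParShLib.isCoh_quotMod D₁) (dim_quotMod_le k hdim h₁)
    omega
  have hn₂ : pair k (ClSub.idealMod D₂) N ≤ 0 := by
    rw [pair_idealMod k hdim h₂ hN]
    have := nef_sym_nonneg k hN hnef hH (ParShLib.isCoh_quotMod D₂) (dim_quotMod_le k hdim h₂)
    omega
  rw [pair_comm k hI₁ hN, hinv hI₁, pair_comm k hI₂ hI₁] at hn₁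
  rw [pair_comm k hI₂ hN, hinv hI₂] at hn₂
  rw [hinv hN, pair_comm k hI₁ hN, pair_comm k hI₂ hN, hinv hI₁, hinv hI₂, pair_comm k hI₂ hI₁] at hpos
  by_contra hle
  push Not at hle
  rcases hle.lt_or_eq with hlt | heq
  · have hP : 0 < pair k (ClSub.idealMod D₁) (ClSub.idealMod D₁) := by omega
    obtain ⟨Q, hQ, hQN⟩ := exists_comb k hdim.le hI₂ hI₁ (pair k (ClSub.idealMod D₁) (ClSub.idealMod D₁))
      (- pair k (ClSub.idealMod D₁) (ClSub.idealMod D₂))
    have h1 := index_pos k hdim hproj hH hI₁ hQ hP (by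
      rw [pair_comm k hI₁ hQ, hQN _ hI₁, pair_comm k hI₂ hI₁]; ring)
    rw [pair_comb_self k hI₂ hI₁ hQ hQN, pair_comm k hI₂ hI₁] at h1
    set p := pair k (ClSub.idealMod D₁) (ClSub.idealMod D₁)
    set q := pair k (ClSub.idealMod D₂) (ClSub.idealMod D₂)
    set m := pair k (ClSub.idealMod D₁) (ClSub.idealMod D₂)
    have e1 : (m * m) < p * q := by
      nlinarith [mul_nonneg (show 0 ≤ p + m by omega) (show 0 ≤ q + m by omega),
        mul_pos (show 0 < -m by omega) (show 0 < p + q + 2 * m by omega)]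
    nlinarith [mul_pos hP (sub_pos.2 e1)]
  · rw [heq] at hn₁ hn₂ hpos
    have aux : ∀ {A B : X.IdealSheafData}, BlowUp.IsEffCartierIdeal A → BlowUp.IsEffCartierIdeal B → B ≠ ⊤ →
        0 < pair k (ClSub.idealMod A) (ClSub.idealMod A) → pair k (ClSub.idealMod A) (ClSub.idealMod B) = 0 →
        0 ≤ pair k (ClSub.idealMod B) (ClSub.idealMod B) → False := fun {A B} hA hB hne hp h0 hq => by
      have hA' := (S8914.result A).2 hA
      have hB' := (S8914.result B).2 hB
      have hz := pair_eq_zero_pos k hdim hH hA' hB' hp h0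
        (le_antisymm (index_pos k hdim hproj hH hA' hB' hp h0) hq) hH.1
      rw [pair_idealMod k hdim hB hH.1] at hz
      have := sym_pos_divisor k hdim hB hne hH
      omega
    by_cases hp : 0 < pair k (ClSub.idealMod D₁) (ClSub.idealMod D₁)
    · exact aux h₁ h₂ hne₂ hp heq (by omega)
    · exact aux h₂ h₁ hne₁ (by omega) (by rw [pair_comm k hI₂ hI₁]; exact heq) (by omega)

end Groth.Agent.SurfRR
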