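import Groth.Agent.SurfRR.Proj
import Groth.Agent.BigMono.NefPos
import Groth.Agent.H23.EquidimFibres
import Groth.Agent.S1536
import Groth.Agent.S14518
import Groth.Agent.BlowUpX.Projective
import Groth.Agent.ExpDescLib.Core

/-!
# Curves, adjunction and nef modules on smooth proper surfaces
-/

set_option autoImplicit false
set_option linter.style.haveILetI false
set_option linter.unusedSectionVars false
set_option backward.isDefEq.respectTransparency false
set_option backward.isDefEq.respectTransparency.types false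
set_option maxHeartbeats 1000000

universe u

open CategoryTheory CategoryTheory.Limits AlgebraicGeometry TopologicalSpace
open Groth.Agent.H23.PicMul
open scoped Groth.Agent.H23.PicMul

noncomputable section

namespace Groth.Agent.SurfRR

open Groth.Agent.IntSym
open BigMono (NefC)

variable (k : Type u) [Field k]

/-- Integral proper schemes over algebraically closed fields have only constant functions. -/
theorem finrank_h0_structure [IsAlgClosed k] (X : Scheme.{u}) [X.Over (Spec (CommRingCat.of k))]
    [IsProper (X ↘ Spec (CommRingCat.of k))] [IsIntegral X] :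
    Module.finrank k (Coh.HH X (Coh.structureModule X) 0) = 1 := by
  haveI : IsIntegral (Over.mk (X ↘ Spec (CommRingCat.of k))).left := ‹IsIntegral X›
  haveI : GeometricallyIntegral (X ↘ Spec (CommRingCat.of k)) :=
    H23.EquidimFibres.geometricallyIntegral_of_isAlgClosed (V := Over.mk (X ↘ Spec (CommRingCat.of k)))
  haveI : GeometricallyConnected (X ↘ Spec (CommRingCat.of k)) := ⟨fun L _ x Z a b hp =>
    haveI : IrreducibleSpace Z := GeometricallyIrreducible.geometrically_irreducibleSpace (f := X ↘ Spec (CommRingCat.of k)) x a b hp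
    IrreducibleSpace.connectedSpace _⟩
  exact S1536.result k X

variable {X : Scheme.{u}} [X.Over (Spec (CommRingCat.of k))] [IsProper (X ↘ Spec (CommRingCat.of k))]

theorem eulerDiff (L F : X.Modules) :
    Curv2.euler k X (CohB1.tensorMod F L) - Curv2.euler k X F = sym k [L] F := rfl

theorem euler_idealMod (D : X.IdealSheafData) :
    Curv2.euler k X (ClSub.idealMod D) =
      Curv2.euler k X (Coh.structureModule X) - Curv2.euler k X (ClSub.quotMod D) := by
  haveI := CurveCohLib.isNoetherian_of_proper (k := k) (X := X)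
  have hO : Coh.IsCoh (Coh.structureModule X) := QCoh.isCoh_structureModule' (X := X)
  have hQ : Coh.IsCoh (ClSub.quotMod D) := ParShLib.isCoh_quotMod D
  have hI : Coh.IsCoh (ClSub.idealMod D) :=
    haveI : Mono (ClSub.idealModι D) := by unfold ClSub.idealModι; infer_instance
    QCoh.isCoh_of_mono (ClSub.idealModι D) hO (BlowUpX.isQCoh_idealMod D)
  have h := CurveCohLib.euler_additive (k := k) (IntSym.shortExact_toSubscheme D) hI hO hQ
  change Curv2.euler k X (Coh.structureModule X) = Curv2.euler k X (ClSub.idealMod D) + Curv2.euler k X (ClSub.quotMod D) at h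
  linarith

/-- Nef modules are non-negative on modules with support of dimension at most one. -/
theorem nef_sym_nonneg {N A F : X.Modules} (hN : PicF.IsInvertible N) (hnef : NefC k N) (hA : CohB1.IsAmple A)
    (hF : Coh.IsCoh F) (hd : topologicalKrullDim ↥(CohB1.support F) ≤ ((1 : ℕ) : WithBot ℕ∞)) :
    0 ≤ sym k [N] F := by
  haveI := CurveCohLib.isNoetherian_of_proper (k := k) (X := X)
  set q : ℕ := (sym k [A] F).natAbs + 1 with hq
  have hNq := InvX.isInvertible_tensorPow hN q
  have hA1 := InvX.isInvertible_tensorPow hA.1 1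
  have hH := BigMono.isAmple_nef_tensor k hN hnef hA (p := 1) (q := q) one_pos (by omega)
  have h := (HilbPoly.mult_nonneg_and_pos k hH 1 F hF hd).1
  rw [← sym_replicate] at h
  change 0 ≤ sym k [CohB1.tensorMod (CohB1.tensorPow N q) (CohB1.tensorPow A 1)] F at h
  rw [sym_tensor_head k hNq hA1 (List.forall_mem_nil _) hF hd,
    sym_tensorPow_head k hN (List.forall_mem_nil _) hF hd, sym_tensorPow_head k hA.1 (List.forall_mem_nil _) hF hd,
    Nat.cast_one, one_mul] at h
  by_contra hlt
  have h1 : (q : ℤ) * sym k [N] F ≤ (q : ℤ) * (-1) := mul_le_mul_of_nonneg_left (by omega) (by positivity)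
  omega

/-- Generated modules are nef. -/
theorem nef_of_gg {N : X.Modules} (hN : PicF.IsInvertible N) (hgg : Curv2.IsGloballyGenerated N) : NefC k N := by
  intro Z i _ _ hZ
  obtain ⟨s, hs⟩ := ExpDescLib.exists_genLocus hN hgg (i (genericPoint Z))
  exact (AffCompl.dg_of_section k i (by rw [hZ, Nat.cast_one]) hN s hs).1

/-- Pullbacks of ample modules are nef. -/
theorem nef_pullback_ample {Y : Scheme.{u}} (σ : X ⟶ Y) {A : Y.Modules} (hA : CohB1.IsAmple A) :
    NefC k ((Scheme.Modules.pullback σ).obj A) := by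
  intro Z i _ _ hZ
  haveI := CurveCohLib.isNoetherian_of_proper (k := k) (X := X)
  obtain ⟨n, s, hs, -⟩ := hA.2.2 (σ (i (genericPoint Z)))
  have hAn := InvX.isInvertible_tensorPow hA.1 (n + 1)
  have hP := PicClLib.isInvertible_pullback σ hA.1
  obtain ⟨e⟩ := PicClLib.nonempty_pullback_structureModule σ
  obtain ⟨e'⟩ := IntNum.pullback_tensorPow σ A (n + 1)
  have hloc := InvX.genLocus_pullback σ hAn s e.symm
  have hZ' : topologicalKrullDim Z = ((1 : ℕ) : WithBot ℕ∞) := by rw [hZ, Nat.cast_one]
  have h := (AffCompl.dg_of_section k i hZ' (InvX.isInvertible_tensorPow hP (n + 1))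
    ((e.symm.hom ≫ (Scheme.Modules.pullback σ).map s) ≫ e'.hom) (by
      rw [InvX.genLocus_comp_iso, hloc]
      exact hs)).1
  rw [AffCompl.dg_pow k i hZ' hP] at h
  exact nonneg_of_mul_nonneg_right h (show (0 : ℤ) < ((n + 1 : ℕ) : ℤ) by omega)

section Sections

variable [IsIntegral X]

/-- Products of nonzero sections are nonzero. -/
theorem h0_tensor_pos {A B : X.Modules} (hA : PicF.IsInvertible A) (hB : PicF.IsInvertible B)
    (ha : 0 < Module.finrank k (Coh.HH X A 0)) (hb : 0 < Module.finrank k (Coh.HH X B 0)) :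
    0 < Module.finrank k (Coh.HH X (CohB1.tensorMod A B) 0) := by
  haveI := CurveCohLib.isNoetherian_of_proper (k := k) (X := X)
  obtain ⟨σ, hσ⟩ := VolLib.exists_section_of_pos (k := k) ha
  obtain ⟨τ, hτ⟩ := VolLib.exists_section_of_pos (k := k) hb
  have hne : InvX.tmul σ τ ≠ 0 := fun h =>
    (S14518.tmul_eq_zero (VolLib.isFinLocFree_inv hA) (VolLib.isFinLocFree_inv hB) σ τ h).elim hσ hτ
  haveI := CurveCohLib.finite_HH (k := k) (AmpleVan.isCoh_invertible (InvX.isInvertible_tensorMod hA hB)) 0
  refine Module.finrank_pos_iff.2 ⟨⟨(Sheaf.H.equiv₀ (Coh.toAb (CohB1.tensorMod A B)) isTerminalTop).symm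
    (InvX.tmul σ τ), 0, fun h => hne ?_⟩⟩
  exact (((Sheaf.H.equiv₀ (Coh.toAb (CohB1.tensorMod A B)) isTerminalTop).apply_symm_apply _).symm.trans
    (congrArg _ h)).trans (map_zero _)

/-- If a module and its inverse have sections it is trivial. -/
theorem trivial_of_sections {L L' : X.Modules} (hL : PicF.IsInvertible L) (hL' : PicF.IsInvertible L')
    (u : CohB1.tensorMod L L' ≅ Coh.structureModule X)
    (ha : 0 < Module.finrank k (Coh.HH X L 0)) (hb : 0 < Module.finrank k (Coh.HH X L' 0)) :
    Nonempty (L ≅ Coh.structureModule X) := by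
  haveI := CurveCohLib.isNoetherian_of_proper (k := k) (X := X)
  obtain ⟨σ, hσ⟩ := VolLib.exists_section_of_pos (k := k) ha
  obtain ⟨τ, hτ⟩ := VolLib.exists_section_of_pos (k := k) hb
  let s := InvX.ofSect σ
  let t := InvX.ofSect τ
  have hne : InvX.tmul σ τ ≠ 0 := fun h =>
    (S14518.tmul_eq_zero (VolLib.isFinLocFree_inv hL) (VolLib.isFinLocFree_inv hL') σ τ h).elim hσ hτ
  let w : Coh.structureModule X ⟶ Coh.structureModule X := InvX.mulHom s t ≫ u.hom
  have hone := InvX.isFrame_one (X := X) ⊤
  let g : Γ(X, ⊤) := InvX.one w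
  have hg : AModX.res (Coh.structureModule X) (le_top : (⊤ : X.Opens) ≤ ⊤) (InvX.one w) =
      g • (show Γ(Coh.structureModule X, ⊤) from (1 : Γ(X, ⊤))) := by
    rw [AModX.res_self]
    exact (mul_one g).symm
  have hgu : IsUnit g := by
    letI := (isField_of_universallyClosed k (X ↘ Spec (CommRingCat.of k))).toField
    refine isUnit_iff_ne_zero.2 fun h0 => hne ?_
    have hb' : Function.Injective (u.hom.app ⊤) :=
      ((ConcreteCategory.isIso_iff_bijective _).1 (Scheme.Modules.Hom.isIso_iff_isIso_app.1 inferInstance ⊤)).1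
    refine hb' ?_
    rw [map_zero]
    have h1 : InvX.one w = u.hom.app ⊤ (InvX.one (InvX.mulHom s t)) := rfl
    rw [InvX.mulHom, InvX.one_ofSect, InvX.one_ofSect, InvX.one_ofSect] at h1
    exact h1.symm.trans h0
  have hloc := InvX.genLocus_inf w hone hg
  rw [inf_top_eq, X.basicOpen_of_isUnit hgu, InvX.genLocus_comp_iso, InvX.genLocus_mulHom hL hL'] at hloc
  haveI := AffCompl.isIso_of_genLocus s (top_le_iff.1 (hloc.ge.trans inf_le_left))
  exact ⟨(asIso s).symm⟩

/-- A module with sections meets nef modules non-negatively. -/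
theorem pair_nonneg_nef (hdim : topologicalKrullDim X = ((2 : ℕ) : WithBot ℕ∞)) {M N A : X.Modules}
    (hM : PicF.IsInvertible M) (hN : PicF.IsInvertible N) (hnef : NefC k N) (hA : CohB1.IsAmple A)
    (hsec : 0 < Module.finrank k (Coh.HH X M 0)) : 0 ≤ pair k M N := by
  haveI := CurveCohLib.isNoetherian_of_proper (k := k) (X := X)
  set q : ℕ := (pair k M A).natAbs + 1 with hq
  have hNq := InvX.isInvertible_tensorPow hN q
  have hA1 := InvX.isInvertible_tensorPow hA.1 1
  have hH := BigMono.isAmple_nef_tensor k hN hnef hA (p := 1) (q := q) one_pos (by omega)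
  have h := pair_nonneg_of_section k hdim hM hH hsec
  rw [pair_comm k hM hH.1, pair_tensor k hdim.le hNq hA1 hM, pair_pow k hdim.le hN hM,
    pair_pow k hdim.le hA.1 hM, Nat.cast_one, one_mul, pair_comm k hN hM, pair_comm k hA.1 hM] at h
  by_contra hlt
  have h1 : (q : ℤ) * pair k M N ≤ (q : ℤ) * (-1) := mul_le_mul_of_nonneg_left (by omega) (by positivity)
  omega

end Sections

variable [IsIntegral X] (hdim : topologicalKrullDim X = ((2 : ℕ) : WithBot ℕ∞))
  {C : X.IdealSheafData} (hC : IsIntegral C.subscheme) (hC1 : topologicalKrullDim (C.support : Set X) = 1)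

include hC1 in
theorem dim_subscheme : topologicalKrullDim C.subscheme = ((1 : ℕ) : WithBot ℕ∞) := by
  rw [IntSym.dim_eq_of_range C.subschemeι (Scheme.IdealSheafData.range_subschemeι C), hC1, Nat.cast_one]

include k hdim hC hC1 in
theorem isEffCartier_curve (hreg : ∀ x : X, IsRegularLocalRing (X.presheaf.stalk x)) :
    BlowUp.IsEffCartierIdeal C := by
  haveI := hC
  have h := CurveSurface.isEffCartier_ker k hdim hreg C.subschemeι (dim_subscheme hC1)
  rwa [Scheme.IdealSheafData.ker_subschemeι] at h

include hdim in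
theorem pair_idealMod {D : X.IdealSheafData} (hD : BlowUp.IsEffCartierIdeal D) {M : X.Modules}
    (hM : PicF.IsInvertible M) : pair k (ClSub.idealMod D) M = - sym k [M] (ClSub.quotMod D) := by
  rw [← intNum_two k hdim.le ((S8914.result D).2 hD) hM]
  exact CurveSurface.intNum_idealMod k hdim.le hD hM

include hC hC1 in
/-- The Euler characteristic of an integral curve is at most one, with equality iff the genus vanishes. -/
theorem euler_curve [IsAlgClosed k] :
    Curv2.euler k X (ClSub.quotMod C) ≤ 1 ∧ (Curv2.euler k X (ClSub.quotMod C) = 1 ↔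
      Subsingleton (Coh.HH C.subscheme (Coh.structureModule C.subscheme) 1)) := by
  haveI := hC
  letI : C.subscheme.Over (Spec (CommRingCat.of k)) := ⟨C.subschemeι ≫ (X ↘ Spec (CommRingCat.of k))⟩
  haveI : IsProper (C.subscheme ↘ Spec (CommRingCat.of k)) :=
    inferInstanceAs (IsProper (C.subschemeι ≫ (X ↘ Spec (CommRingCat.of k))))
  haveI := CurveCohLib.isNoetherian_of_proper (k := k) (X := C.subscheme)
  have h : Curv2.euler k X (ClSub.quotMod C) =
      1 - (Module.finrank k (Coh.HH C.subscheme (Coh.structureModule C.subscheme) 1) : ℤ) := by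
    refine (IntNum.euler_push k C.subschemeι rfl QCoh.isQCoh_structureModule).trans ?_
    rw [CurveRR.euler_eq_h0_sub_h1 k (by rw [dim_subscheme hC1, Nat.cast_one]) QCoh.isQCoh_structureModule,
      finrank_h0_structure k C.subscheme]
    rfl
  haveI := CurveCohLib.finite_HH (k := k) (QCoh.isCoh_structureModule' (X := C.subscheme)) 1
  rw [← Module.finrank_zero_iff (R := k), h]
  omega

variable [Smooth (X ↘ Spec (CommRingCat.of k))]

include hdim in
/-- Adjunction. -/
theorem adjunction {D : X.IdealSheafData} (hD : BlowUp.IsEffCartierIdeal D)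
    {W : X.Modules} (hW : ExtPow.IsExtPow 2 (Omega.sheaf (X ↘ Spec (CommRingCat.of k))) W) :
    pair k (ClSub.idealMod D) (ClSub.idealMod D) =
      pair k (ClSub.idealMod D) W - 2 * Curv2.euler k X (ClSub.quotMod D) := by
  have h := riemann_roch k hdim (exists_proj_smooth k hdim) hW ((S8914.result D).2 hD)
  rw [euler_idealMod k D] at h
  linarith

end Groth.Agent.SurfRR
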