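import Groth.Agent.SurfRR.Divisor
import Mathlib.LinearAlgebra.Matrix.NonsingularInverse
import Mathlib.LinearAlgebra.Matrix.ToLinearEquiv

/-!
# Configurations of curves on surfaces
-/

set_option autoImplicit false
set_option linter.style.haveILetI false
set_option linter.unusedSectionVars false
set_option backward.isDefEq.respectTransparency false
set_option backward.isDefEq.respectTransparency.types false
set_option maxHeartbeats 800000

universe u

open CategoryTheory CategoryTheory.Limits AlgebraicGeometry TopologicalSpace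

noncomputable section

open Groth.Agent.IntSym
open scoped Groth.Agent.H23.PicMul

namespace Groth.Agent.SurfRR
open BigMono (NefC)

section Quad

variable {r : ℕ} {M : Fin r → Fin r → ℤ}

theorem neg_part_eq_zero (hoff : ∀ i j, i ≠ j → 0 ≤ M i j)
    (hneg : ∀ a : Fin r → ℤ, a ≠ 0 → ∑ i, ∑ j, a i * a j * M i j < 0)
    {s : Fin r → ℤ} (hs : ∀ j, ∑ i, s i * M i j ≤ 0) : ∀ i, 0 ≤ s i := by
  set q : Fin r → ℤ := fun i => max (- s i) 0 with hq
  suffices hq0 : q = 0 from fun i => by
    have := congrFun hq0 i
    simp only [hq, Pi.zero_apply] at this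
    omega
  by_contra hne
  have h1 : ∀ j, q j * ∑ i, s i * M i j ≤ 0 := fun j =>
    mul_nonpos_of_nonneg_of_nonpos (le_max_right _ _) (hs j)
  have h2 : ∀ i j, - (q i * q j * M i j) ≤ q j * (s i * M i j) := fun i j => by
    have key : 0 ≤ q j * ((s i + q i) * M i j) := by
      rcases eq_or_ne i j with rfl | hij
      · rcases le_total (s i) 0 with h | h
        · have : s i + q i = 0 := by simp only [hq]; omega
          rw [this, zero_mul, mul_zero]
        · have : q i = 0 := by simp only [hq]; omega
          rw [this, zero_mul]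
      · exact mul_nonneg (le_max_right _ _) (mul_nonneg (by simp only [hq]; omega) (hoff i j hij))
    linear_combination key
  have h3 := hneg q hne
  have h4 : ∑ j, ∑ i, - (q i * q j * M i j) ≤ ∑ j, ∑ i, q j * (s i * M i j) :=
    Finset.sum_le_sum fun j _ => Finset.sum_le_sum fun i _ => h2 i j
  have h5 : ∑ j, ∑ i, q j * (s i * M i j) ≤ 0 := by
    simp_rw [← Finset.mul_sum]
    exact Finset.sum_nonpos fun j _ => h1 j
  simp_rw [Finset.sum_neg_distrib] at h4
  rw [Finset.sum_comm] at h4
  linarith

theorem exists_solution (hneg : ∀ a : Fin r → ℤ, a ≠ 0 → ∑ i, ∑ j, a i * a j * M i j < 0) (b : Fin r → ℤ) :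
    ∃ (d : ℤ) (n : Fin r → ℤ), 0 < d ∧ ∀ j, ∑ i, n i * M i j = d * b j := by
  let A : Matrix (Fin r) (Fin r) ℤ := Matrix.of fun j i => M i j
  have hdet : A.det ≠ 0 := fun h => by
    obtain ⟨v, hv, hAv⟩ := Matrix.exists_mulVec_eq_zero_iff.2 h
    have := hneg v hv
    rw [Finset.sum_comm] at this
    have h0 : ∀ j, ∑ i, v i * v j * M i j = v j * (A.mulVec v) j := fun j => by
      simp only [Matrix.mulVec, dotProduct, A, Matrix.of_apply, Finset.mul_sum]
      exact Finset.sum_congr rfl fun i _ => by ring
    simp_rw [h0, hAv] at this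
    simp at this
  refine ⟨A.det * A.det, A.det • A.adjugate.mulVec b, mul_self_pos.2 hdet, fun j => ?_⟩
  have h : (A.mulVec (A.det • A.adjugate.mulVec b)) j = A.det * A.det * b j := by
    rw [Matrix.mulVec_smul, Matrix.mulVec_mulVec, Matrix.mul_adjugate, Matrix.smul_mulVec, Matrix.one_mulVec,
      Pi.smul_apply, Pi.smul_apply, smul_eq_mul, smul_eq_mul, mul_assoc]
  rw [← h]
  simp only [Matrix.mulVec, dotProduct, A, Matrix.of_apply]
  exact Finset.sum_congr rfl fun i _ => mul_comm _ _

end Quad

variable (k : Type u) [Field k] {X : Scheme.{u}} [X.Over (Spec (CommRingCat.of k))]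
  [IsProper (X ↘ Spec (CommRingCat.of k))]

/-- Integer combinations of a finite family. -/
theorem exists_sum (hd : topologicalKrullDim X ≤ ((2 : ℕ) : WithBot ℕ∞)) : ∀ {r : ℕ} (L : Fin r → X.Modules)
    (_ : ∀ i, PicF.IsInvertible (L i)) (a : Fin r → ℤ), ∃ P : X.Modules, PicF.IsInvertible P ∧
      ∀ N, PicF.IsInvertible N → pair k P N = ∑ i, a i * pair k (L i) N
  | 0, _, _, _ => ⟨Coh.structureModule X, InvX.isInvertible_structureModule, fun N hN => by
      rw [Finset.univ_eq_empty, Finset.sum_empty]
      exact sym_structure_head k (List.forall_mem_singleton.2 hN) _⟩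
  | r + 1, L, hL, a => by
    obtain ⟨Q, hQ, hQN⟩ := exists_sum hd (fun i => L i.succ) (fun i => hL _) (fun i => a i.succ)
    obtain ⟨P, hP, hPN⟩ := exists_zmul k hd (hL 0) (a 0)
    exact ⟨CohB1.tensorMod P Q, InvX.isInvertible_tensorMod hP hQ, fun N hN => by
      rw [pair_tensor k hd hP hQ hN, hPN N hN, hQN N hN, Fin.sum_univ_succ]⟩

variable [IsIntegral X] (hdim : topologicalKrullDim X = ((2 : ℕ) : WithBot ℕ∞))

omit [X.Over (Spec (CommRingCat.of k))] [IsProper (X ↘ Spec (CommRingCat.of k))] [IsIntegral X] in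
/-- Integral curves with comparable supports are equal. -/
theorem curve_eq_of_subset {C D : X.IdealSheafData} (hC : IsIntegral C.subscheme) (hD : IsIntegral D.subscheme)
    (h : (C.support : Set X) = (D.support : Set X)) : C = D := by
  haveI := hC
  haveI := hD
  obtain ⟨e, he⟩ := QCoh.closedImmersion_iso_of_range C.subschemeι D.subschemeι (by
    rw [Scheme.IdealSheafData.range_subschemeι, Scheme.IdealSheafData.range_subschemeι, h])
  rw [← Scheme.IdealSheafData.ker_subschemeι C, ← Scheme.IdealSheafData.ker_subschemeι D, ← he,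
    Scheme.Hom.ker_comp_of_isIso]

include hdim in
theorem curve_ne_top {C : X.IdealSheafData} (hC : IsIntegral C.subscheme) : C ≠ ⊤ := fun h => by
  haveI := hC
  haveI : IsEmpty C.subscheme := by rw [h]; infer_instance
  exact IsEmpty.false (Classical.arbitrary C.subscheme)

omit [IsIntegral X] in
theorem eulerDiff_eq_neg_pair [IsIntegral X] (hdim : topologicalKrullDim X = ((2 : ℕ) : WithBot ℕ∞))
    (hreg : ∀ x : X, IsRegularLocalRing (X.presheaf.stalk x)) {C : X.IdealSheafData} (hC : IsIntegral C.subscheme)
    (hC1 : topologicalKrullDim (C.support : Set X) = 1) {L : X.Modules} (hL : PicF.IsInvertible L) :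
    Curv2.euler k X (CohB1.tensorMod (ClSub.quotMod C) L) - Curv2.euler k X (ClSub.quotMod C) =
      - pair k (ClSub.idealMod C) L := by
  rw [eulerDiff, pair_idealMod k hdim (isEffCartier_curve k hdim hC hC1 hreg) hL, neg_neg]

include hdim in
/-- Divisors meet curves not contained in them non-negatively. -/
theorem pair_nonneg_curve {F C : X.IdealSheafData} (hF : BlowUp.IsEffCartierIdeal F)
    (hC : IsIntegral C.subscheme) (hC1 : topologicalKrullDim (C.support : Set X) = 1)
    (hreg : ∀ x : X, IsRegularLocalRing (X.presheaf.stalk x))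
    (hns : ¬ (C.support : Set X) ⊆ (F.support : Set X)) :
    0 ≤ pair k (ClSub.idealMod F) (ClSub.idealMod C) := by
  haveI := CurveCohLib.isNoetherian_of_proper (k := k) (X := X)
  haveI := hC
  obtain ⟨L, s, hL, ⟨u⟩, hs⟩ := AffCompl.exists_section_of_divisor F hF
  have hη : C.subschemeι (genericPoint C.subscheme) ∈ CohB1.genLocus L s := (hs _).2 fun hmem => hns (by
    rw [← Scheme.IdealSheafData.range_subschemeι C, QCoh.range_eq_closure C.subschemeι]
    exact F.support.isClosed.closure_subset_iff.2 (Set.singleton_subset_iff.2 hmem))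
  have h := (AffCompl.dg_of_section k C.subschemeι (dim_subscheme hC1) hL s hη).1
  change 0 ≤ sym k [L] (ClSub.quotMod C) at h
  have hCc := isEffCartier_curve k hdim hC hC1 hreg
  have hIF := (S8914.result F).2 hF
  have hIC := (S8914.result C).2 hCc
  have h2 := sym_inverse_head k hL hIF u (l := []) (List.forall_mem_nil _)
    (ParShLib.isCoh_quotMod C) (dim_quotMod_le k hdim hCc)
  rw [pair_comm k hIF hIC, pair_idealMod k hdim hCc hIF]
  omega

include hdim in
/-- Distinct curves meet non-negatively. -/
theorem pair_nonneg_curves {C D : X.IdealSheafData}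
    (hC : IsIntegral C.subscheme) (hC1 : topologicalKrullDim (C.support : Set X) = 1)
    (hD : IsIntegral D.subscheme) (hD1 : topologicalKrullDim (D.support : Set X) = 1)
    (hreg : ∀ x : X, IsRegularLocalRing (X.presheaf.stalk x)) (hne : C ≠ D) :
    0 ≤ pair k (ClSub.idealMod D) (ClSub.idealMod C) := by
  haveI := CurveCohLib.isNoetherian_of_proper (k := k) (X := X)
  refine pair_nonneg_curve k hdim (isEffCartier_curve k hdim hD hD1 hreg) hC hC1 hreg fun hsub => ?_
  refine hne (curve_eq_of_subset hC hD (hsub.antisymm fun y hy => ?_))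
  haveI := hC; haveI := hD
  by_contra hyC
  have hlt : topologicalKrullDim ((C.support : Set X)) < topologicalKrullDim ((D.support : Set X)) := by
    have hZ : IsClosed (D.subschemeι ⁻¹' (C.support : Set X)) := C.support.isClosed.preimage D.subschemeι.continuous
    have h1 : topologicalKrullDim D.subscheme = ((1 : ℕ) : WithBot ℕ∞) := dim_subscheme hD1
    have h2 := H23.TopDim.dim_lt_of_ssubset (X := D.subscheme)
      (by rw [h1]; exact WithBot.coe_inj.not.2 (ENat.natCast_ne_top _)) hZ (fun h => by
        obtain ⟨w, hw⟩ : y ∈ Set.range D.subschemeι := (Scheme.IdealSheafData.range_subschemeι D).symm ▸ hy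
        exact hyC (hw ▸ (h ▸ Set.mem_univ w : w ∈ D.subschemeι ⁻¹' (C.support : Set X))))
    have h3 : topologicalKrullDim ↥(D.subschemeι ⁻¹' (C.support : Set X)) = topologicalKrullDim ↥(C.support : Set X) := by
      rw [(D.subschemeι.isClosedEmbedding.isEmbedding.homeomorphImage _).isHomeomorph.topologicalKrullDim_eq,
        Set.image_preimage_eq_of_subset (hsub.trans (Scheme.IdealSheafData.range_subschemeι D).ge)]
    rw [h3, h1] at h2
    rwa [hD1, ← Nat.cast_one]
  rw [hC1, hD1] at hlt
  exact lt_irrefl _ hlt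

end Groth.Agent.SurfRR
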