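import Groth.Agent.SurfRR.Curve

/-!
# Invertible modules with sections orthogonal to an ample class
-/

set_option autoImplicit false
set_option linter.style.haveILetI false
set_option linter.unusedSectionVars false
set_option backward.isDefEq.respectTransparency false
set_option backward.isDefEq.respectTransparency.types false
set_option maxHeartbeats 800000

universe u

open CategoryTheory CategoryTheory.Limits AlgebraicGeometry TopologicalSpace

noncomputable section

namespace Groth.Agent.SurfRR
open Groth.Agent.IntSym
open scoped Groth.Agent.H23.PicMul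

variable (k : Type u) [Field k] {X : Scheme.{u}} [X.Over (Spec (CommRingCat.of k))]
  [IsProper (X ↘ Spec (CommRingCat.of k))] [IsIntegral X]

include k in
/-- An invertible module with a nonzero section and degree zero for an ample class is trivial. -/
theorem trivial_of_section (hdim : topologicalKrullDim X = ((2 : ℕ) : WithBot ℕ∞)) {M A : X.Modules}
    (hM : PicF.IsInvertible M) (hA : CohB1.IsAmple A) (h0 : 0 < Module.finrank k (Coh.HH X M 0))
    (horth : pair k M A = 0) : Nonempty (M ≅ Coh.structureModule X) := by
  haveI := CurveCohLib.isNoetherian_of_proper (k := k) (X := X)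
  obtain ⟨τ, hτ⟩ := VolLib.exists_section_of_pos (k := k) h0
  let s : Coh.structureModule X ⟶ M := InvX.ofSect τ
  have hs : s ≠ 0 := fun h => hτ (by
    rw [← InvX.one_ofSect τ]
    exact congrArg InvX.one h)
  obtain ⟨D, hD, ⟨eD⟩, hDs⟩ := AffCompl.exists_divisor_of_section hM s hs
  have hDi := (S8914.result D).2 hD
  have hsym : IntSym.sym k [A] (ClSub.quotMod D) = 0 := by
    have h1 := SurfRR.pair_idealMod k hdim hD hA.1
    have h2 := SurfRR.pair_inverse k hdim.le hM hDi eD hA.1
    omega
  have hDe : (D.support : Set X) = ∅ := Set.eq_empty_of_forall_notMem fun x hx => by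
    obtain ⟨ξ, hξD, -, hξ⟩ := AffCompl.exists_curve_point k hdim hD hx
    have hsupp : CohB1.support (ClSub.quotMod D) = (D.support : Set X) := by
      rw [← Scheme.IdealSheafData.range_subschemeι D]
      refine Set.Subset.antisymm (QCoh.support_push_subset D.subschemeι QCoh.isQCoh_structureModule) ?_
      rintro _ ⟨z, rfl⟩ hz
      haveI : Subsingleton (((Coh.push D.subschemeι).obj (Coh.structureModule D.subscheme)).presheaf.stalk (D.subschemeι z)) := hz
      have h := H23.ClosedPushLen.length_stalk D.subschemeι (Coh.structureModule D.subscheme) z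
      rw [Module.length_eq_zero, H23.ClosedPushLen.length_structureModule] at h
      exact absurd (Module.length_eq_zero_iff.1 h.symm) (not_subsingleton _)
    have hd1 : topologicalKrullDim ↥(CohB1.support (ClSub.quotMod D)) = ((1 : ℕ) : WithBot ℕ∞) := by
      rw [hsupp]
      refine le_antisymm (HilbPoly.le_of_lt_succ ((H23.TopDim.dim_lt_of_ssubset (X := X) ?_ D.support.isClosed ?_).trans_le hdim.le)) ?_
      · rw [hdim]
        exact WithBot.coe_inj.not.2 (ENat.natCast_ne_top _)
      · intro h
        have hη : genericPoint ↥X ∈ (D.support : Set X) := h ▸ Set.mem_univ _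
        rw [hDs] at hη
        exact hη (by
          haveI := InvEnd.mono_of_ne_zero InvX.isInvertible_structureModule hM s hs
          exact NakaiMo.genericPoint_mem_genLocus hM s)
      · have h1 := VarDim.topologicalKrullDim_closure_singleton (X ↘ Spec (CommRingCat.of k)) ξ
        rw [hξ] at h1
        exact h1.ge.trans (H23.TopDim.dim_le_dim_of_subset
          (D.support.isClosed.closure_subset_iff.2 (Set.singleton_subset_iff.2 hξD)))
    have h := (HilbPoly.mult_nonneg_and_pos k hA 1 _ (ParShLib.isCoh_quotMod D) hd1.le).2 hd1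
    rw [← IntSym.sym_replicate] at h
    exact h.ne' hsym
  haveI := AffCompl.isIso_of_genLocus s (TopologicalSpace.Opens.ext (by
    rw [hDs, Set.compl_empty_iff] at hDe
    exact hDe))
  exact ⟨(asIso s).symm⟩

variable [Smooth (X ↘ Spec (CommRingCat.of k))]

theorem pair_structure (hdim : topologicalKrullDim X = ((2 : ℕ) : WithBot ℕ∞)) {A : X.Modules}
    (hA : PicF.IsInvertible A) : pair k (Coh.structureModule X) A = 0 :=
  sym_structure_head k (List.forall_mem_singleton.2 hA) _

/-- On a regular surface with trivial canonical module numerically trivial modules are trivial. -/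
theorem trivial_of_numTriv [IsAlgClosed k] (hdim : topologicalKrullDim X = ((2 : ℕ) : WithBot ℕ∞))
    (hK : ExtPow.IsExtPow 2 (Omega.sheaf (X ↘ Spec (CommRingCat.of k))) (Coh.structureModule X))
    (hq : Module.finrank k (Coh.HH X (Coh.structureModule X) 1) = 0)
    {L H : X.Modules} (hL : PicF.IsInvertible L) (hH : CohB1.IsAmple H)
    (hLL : pair k L L = 0) (hLH : pair k L H = 0) : Nonempty (L ≅ Coh.structureModule X) := by
  haveI := CurveCohLib.isNoetherian_of_proper (k := k) (X := X)
  have hO := InvX.isInvertible_structureModule (X := X)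
  have hproj := exists_proj_smooth k hdim
  obtain ⟨L', hL', ⟨u⟩⟩ := H23.PicInv.exists_inverse hL
  have uO : CohB1.tensorMod (Coh.structureModule X) (Coh.structureModule X) ≅ Coh.structureModule X :=
    (CurveSurface.nonempty_unit_tensor (Coh.structureModule X)).some
  have hrr := riemann_roch k hdim hproj hK hL
  have h1 := euler_three k hdim (AmpleVan.isCoh_invertible hL).1
  have h2 := euler_three k hdim (QCoh.isQCoh_structureModule (X := X))
  have h3 := finrank_dual k hdim hproj hK hO uO (q := 2) le_rfl
  rw [(S2926.hhIso k uO _).finrank_eq, show (2 : ℕ) - 2 = 0 from rfl, finrank_h0_structure k X] at h3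
  rw [hq, h3, finrank_h0_structure k X] at h2
  rw [finrank_dual k hdim hproj hK hL u (q := 2) le_rfl,
    (S2926.hhIso k (CurveSurface.nonempty_unit_tensor L').some _).finrank_eq, show (2 : ℕ) - 2 = 0 from rfl] at h1
  rw [hLL, pair_comm k hL hO, pair_structure k hdim hL] at hrr
  rcases Nat.eq_zero_or_pos (Module.finrank k (Coh.HH X L 0)) with h0 | h0
  · have h4 : 0 < Module.finrank k (Coh.HH X L' 0) := by omega
    obtain ⟨e⟩ := trivial_of_section k hdim hL' hH h4 (by rw [pair_inverse k hdim.le hL hL' u hH.1, hLH, neg_zero])
    refine H23.PicMul.cl_eq_iff.1 ((H23.PicMul.isUnit_cl hL').mul_right_cancel ?_)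
    rw [← H23.PicMul.cl_tensor, H23.PicMul.cl_eq_iff.2 ⟨u⟩, H23.PicMul.cl_eq_iff.2 ⟨e⟩, ← H23.PicMul.one_def, one_mul]
  · exact trivial_of_section k hdim hL hH h0 hLH

end Groth.Agent.SurfRR
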