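import Groth.Agent.SurfRR.GraphPairs
import Groth.Agent.AVFrobLib.Exist
import Groth.Agent.AVFrobLib.PowPull
import Groth.Agent.ZetaLib.BaseChange
import Groth.Agent.NefCurve.RegPoints
import Groth.Agent.S0219

/-!
# The Hasse–Weil bound for curves over finite fields
-/

set_option autoImplicit false
set_option linter.style.haveILetI false
set_option linter.unusedSectionVars false
set_option backward.isDefEq.respectTransparency false
set_option backward.isDefEq.respectTransparency.types false
set_option maxHeartbeats 1000000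

universe u

open CategoryTheory CategoryTheory.Limits AlgebraicGeometry TopologicalSpace

noncomputable section

namespace Groth.Agent.SurfRR

open Groth.Agent.WeilLib

/-- The absolute `q`-Frobenius of a scheme over `F_q`. -/
theorem exists_powMap {k : Type u} [Field k] [Finite k] {X : Scheme.{u}} (f : X ⟶ Spec (CommRingCat.of k)) :
    ∃ FX : X ⟶ X, FX ≫ f = f ∧ IsPowMap FX (Nat.card k) := by
  haveI := Fintype.ofFinite k
  obtain ⟨p, hp⟩ := CharP.exists k
  obtain ⟨e, hprime, he⟩ := FiniteField.card k p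
  haveI : Fact p.Prime := ⟨hprime⟩
  haveI : CharP (CommRingCat.of k) p := hp
  haveI : FrobSch.IsCharP X p := FrobSch.IsCharP.of_hom f p
  haveI : FrobSch.IsCharP (Spec (CommRingCat.of k)) p := FrobSch.IsCharP.of_hom (𝟙 _) p
  refine ⟨AVFrobLib.frobIter p X e, ?_, by rw [Nat.card_eq_fintype_card, he]; exact AVFrobLib.isPowMap_frobIter p X e⟩
  rw [AVFrobLib.frobIter_comp, AVFrobLib.frobIter_spec]
  refine (congrArg (f ≫ ·) ((congrArg Spec.map (CommRingCat.hom_ext (RingHom.ext fun x => ?_) :
    CommRingCat.ofHom (iterateFrobenius k p e) = 𝟙 _)).trans (Spec.map_id _))).trans (Category.comp_id f)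
  show iterateFrobenius k p e x = x
  rw [iterateFrobenius_def, ← he, FiniteField.pow_card]

attribute [local instance] CurveBC.overBar

/-- The Hasse–Weil bound over the ground field. -/
theorem weil_bound {k : Type u} [Field k] [Finite k] {C : Scheme.{u}}
    (f : C ⟶ Spec (CommRingCat.of k)) (hC : Curve.IsSmoothProperCurve k C f)
    [GeometricallyIrreducible f] :
    letI : C.Over (Spec (CommRingCat.of k)) := ⟨f⟩
    ((SgaExt.pointCount f k : ℤ) - Nat.card k - 1) ^ 2 ≤
      4 * (Curv2.genus k C : ℤ) ^ 2 * Nat.card k := by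
  obtain ⟨_, _, _, hdim⟩ := hC
  letI : C.Over (Spec (CommRingCat.of k)) := ⟨f⟩
  haveI : IsProper (C ↘ Spec (CommRingCat.of k)) := ‹IsProper f›
  haveI : Smooth (C ↘ Spec (CommRingCat.of k)) := ‹Smooth f›
  haveI : GeometricallyConnected (C ↘ Spec (CommRingCat.of k)) := ⟨fun L _ x Z a b hp =>
    haveI : IrreducibleSpace Z := GeometricallyIrreducible.geometrically_irreducibleSpace (f := f) x a b hp
    IrreducibleSpace.connectedSpace _⟩
  have h0 := CurveBC.finrank_h0_of_geometricallyConnected k C
  let K := AlgebraicClosure k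
  let Y := Curv2.bc k C K
  let π : Y ⟶ C := Curv2.bcFst k C K
  obtain ⟨_, _, _, hdY, _, _⟩ := CurveBC.bar_facts k C hdim h0
  have hpb := CurveBC.isPullback_bar k C
  haveI := CurveCohLib.isNoetherian_of_proper (k := k) (X := C)
  haveI := quasiSeparatedSpace_of_quasiSeparated (C ↘ Spec (CommRingCat.of k))
  haveI := CurveCohLib.isNoetherian_of_proper (k := K) (X := Y)
  obtain ⟨FX, hFXf, hFX⟩ := exists_powMap f
  let G : Y ⟶ Y := hpb.lift (π ≫ FX) (Y ↘ Spec (CommRingCat.of K))
    (by rw [Category.assoc]; exact (congrArg (π ≫ ·) hFXf).trans hpb.w)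
  have hGπ : G ≫ π = π ≫ FX := hpb.lift_fst _ _ _
  have hGg : G ≫ (Y ↘ Spec (CommRingCat.of K)) = Y ↘ Spec (CommRingCat.of K) := hpb.lift_snd _ _ _
  -- the fixed scheme
  haveI : IsReduced (FinFr.fixScheme (Y ↘ Spec (CommRingCat.of K)) G hGg) := by
    haveI := Fintype.ofFinite k
    obtain ⟨p, hp⟩ := CharP.exists k
    obtain ⟨e, hprime, he⟩ := FiniteField.card k p
    haveI : Fact p.Prime := ⟨hprime⟩
    haveI : CharP K p := charP_of_injective_algebraMap (algebraMap k K).injective p
    refine ZetaLib.isReduced_fixScheme hGg hpb p e e.pos ?_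
    rw [← he, ← Nat.card_eq_fintype_card]
    exact isPowLift_of_comm hFX _ hGπ
  haveI : LocallyOfFiniteType f := inferInstance
  haveI : QuasiCompact f := inferInstance
  haveI : Finite (FinFr.fixScheme (Y ↘ Spec (CommRingCat.of K)) G hGg) :=
    ZetaLib.finite_fixed hGg hpb hFX hGπ
  -- `G` is finite and surjective
  have hbase : ∀ y, π (G y) = π y := (isPowLift_of_comm hFX π hGπ).base
  haveI : IsIntegralHom (Spec.map (CommRingCat.ofHom (algebraMap k K))) := by
    rw [IsIntegralHom.SpecMap_iff]
    exact algebraMap_isIntegral_iff.2 inferInstance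
  haveI : IsIntegralHom π := MorphismProperty.of_isPullback (P := @IsIntegralHom) hpb.flip inferInstance
  have hGη : G (genericPoint Y) = genericPoint Y := by
    refine CurveCohLib.eq_genericPoint_of_not_isClosed hdY fun hcl => ?_
    have h1 : IsClosed ({π (genericPoint Y)} : Set C) := by
      have := π.isClosedMap _ hcl
      rwa [Set.image_singleton, hbase] at this
    refine CurveEmbed.genericPoint_not_closed (X := C) hdim ?_
    suffices π (genericPoint Y) = genericPoint C by rwa [this] at h1
    refine ((genericPoint_spec C).eq ?_).symm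
    rw [IsGenericPoint, ← Set.image_singleton, ← closure_image_closure π.continuous]
    rw [genericPoint_closure, Set.image_univ, π.surjective.range_eq, closure_univ]
  have hGnt : ∀ Z ∈ irreducibleComponents (Y : Type u), topologicalKrullDim Z = 1 → (G.base '' Z).Nontrivial := by
    intro Z hZ _
    have hZu : Z = Set.univ := by
      rw [irreducibleComponents_eq_singleton] at hZ
      exact hZ
    rw [hZu, Set.image_univ]
    by_contra hs
    rw [Set.not_nontrivial_iff] at hs
    have h1 : ∀ y, π y = π (genericPoint Y) := fun y => by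
      rw [← hbase y]
      exact congrArg π ((hs ⟨y, rfl⟩ ⟨genericPoint Y, rfl⟩).trans hGη)
    haveI : Subsingleton C := ⟨fun a b => by
      obtain ⟨y, rfl⟩ := π.surjective a
      obtain ⟨z, rfl⟩ := π.surjective b
      rw [h1 y, h1 z]⟩
    exact CurveEmbed.genericPoint_not_closed (X := C) hdim (Set.subsingleton_of_subsingleton.isClosed)
  haveI : IsFinite G := S0219.result K Y Y (Y ↘ Spec (CommRingCat.of K)) (Y ↘ Spec (CommRingCat.of K)) G hGg hdY.le hGnt
  haveI : Surjective G := ⟨fun y => by
    have h := G.isClosedMap.isClosed_range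
    have hu : (Set.univ : Set Y) ⊆ Set.range G := by
      rw [← genericPoint_closure, h.closure_subset_iff, Set.singleton_subset_iff]
      exact ⟨_, hGη⟩
    exact hu (Set.mem_univ y)⟩
  -- the degree
  let d : ℤ := (G.residueDegree (genericPoint Y) : ℤ)
  have hd : ∀ M : Y.Modules, PicF.IsInvertible M →
      Curv2.deg K Y ((Scheme.Modules.pullback G).obj M) 1 = d * Curv2.deg K Y M 1 := fun M hM => by
    rw [NefTest.deg_eq_sym, NefTest.deg_eq_sym]
    exact (NefTest.sym_finite_pullback K G hGg hdY hM).1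
  obtain ⟨x, hx⟩ : ∃ x : C, IsClosed ({x} : Set C) := by
    obtain ⟨x, -, hx⟩ := IsClosed.exists_closed_singleton (isClosed_univ (X := C)) Set.univ_nonempty
    exact ⟨x, hx⟩
  let L := CurvePoint.ptMod x hx
  have hLi : PicF.IsInvertible L := CurveEmbed.isInvertible_point k hdim hx
    (NefCurve.isIntegrallyClosed_of_regular k hdim hx (regular_of_smooth k x))
  have hLd : Curv2.deg k C L 1 < 0 := by
    rw [CurveEmbed.deg_point k hx]
    haveI : Finite (C.residueField x) := ZetaLib.finite_residueField (f ≫ ZetaLib.toSpecZ k) hx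
    letI := (VarDim.resHom f x).toAlgebra
    have := Module.finrank_pos (R := k) (M := C.residueField x)
    omega
  have hdq : d = Nat.card k := by
    have hL' := PicClLib.isInvertible_pullback π hLi
    have hFL := PicClLib.isInvertible_pullback FX hLi
    obtain ⟨e⟩ := AVFrobLib.nonempty_pullback_iso_tensorPow hFX hLi
    have h1 := hd _ hL'
    have e2 : (Scheme.Modules.pullback G).obj ((Scheme.Modules.pullback π).obj L) ≅
        (Scheme.Modules.pullback π).obj ((Scheme.Modules.pullback FX).obj L) :=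
      (Scheme.Modules.pullbackComp G π).app L ≪≫ (Scheme.Modules.pullbackCongr hGπ).app L ≪≫
        ((Scheme.Modules.pullbackComp π FX).app L).symm
    rw [CurveRR.deg_congr K e2 1, CurveBC.deg_eq k K π hpb _ (AmpleVan.isCoh_invertible hFL).1,
      CurveBC.deg_eq k K π hpb _ (AmpleVan.isCoh_invertible hLi).1, CurveRR.deg_congr k e 1, NefTest.deg_eq_sym,
      NefTest.deg_eq_sym, IntSym.sym_tensorPow_head k hLi (List.forall_mem_nil _) QCoh.isCoh_structureModule'
        ((topologicalKrullDim_subspace_le C _).trans (by rw [hdim]; rfl))] at h1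
    rw [NefTest.deg_eq_sym] at hLd
    exact (mul_right_cancel₀ hLd.ne h1).symm
  have hne : G ≠ 𝟙 Y := fun hG => by
    have h1 := hd _ (PicClLib.isInvertible_pullback π hLi)
    rw [hG, CurveRR.deg_congr K ((Scheme.Modules.pullbackId Y).app _) 1, Functor.id_obj,
      CurveBC.deg_eq k K π hpb _ (AmpleVan.isCoh_invertible hLi).1, hdq] at h1
    have h2 : (1 : ℤ) < Nat.card k := by exact_mod_cast Finite.one_lt_card
    nlinarith
  have h := graph_bound K hdY G hGg hne d hd
  have hFX1 : IsPowMap FX (Nat.card k ^ 1) := by rwa [pow_one]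
  have hcount : Nat.card {p : Spec (CommRingCat.of K) ⟶ Y // p ≫ (Y ↘ Spec (CommRingCat.of K)) = 𝟙 _ ∧ p ≫ G = p} =
      SgaExt.pointCount f k := by
    rw [Nat.card_congr (fixedEquiv f hFX1 hpb hGπ hGg), ZetaLib.card_sigma_pointsOver f Nat.one_pos,
      ZetaLib.pointCount_eq_nPts f k, Module.finrank_self]
  rw [hcount, hdq, CurveBC.genus_eq k K π hpb] at h
  exact h

/-- The Hasse–Weil bound over every finite extension. -/
theorem hasse_weil {k : Type u} [Field k] [Finite k] {C : Scheme.{u}}
    (f : C ⟶ Spec (CommRingCat.of k)) (hC : Curve.IsSmoothProperCurve k C f)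
    [GeometricallyIrreducible f] (g : ℕ)
    (hg : Nat.card (Coh.HH C (Coh.structureModule C) 1) = Nat.card k ^ g)
    (k' : Type u) [Field k'] [Algebra k k'] [Finite k'] :
    |(SgaExt.pointCount f k' : ℝ) - ((Nat.card k : ℝ) ^ Module.finrank k k' + 1)| ≤
      2 * g * (Nat.card k : ℝ) ^ ((Module.finrank k k' : ℝ) / 2) := by
  obtain ⟨_, _, _, hdim⟩ := hC
  letI : C.Over (Spec (CommRingCat.of k)) := ⟨f⟩
  haveI : IsProper (C ↘ Spec (CommRingCat.of k)) := ‹IsProper f›
  haveI : Smooth (C ↘ Spec (CommRingCat.of k)) := ‹Smooth f›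
  haveI := CurveCohLib.isNoetherian_of_proper (k := k) (X := C)
  haveI := quasiSeparatedSpace_of_quasiSeparated (C ↘ Spec (CommRingCat.of k))
  haveI := CurveCohLib.finite_HH (k := k) (QCoh.isCoh_structureModule' (X := C)) 1
  have hgen : Curv2.genus k C = g := by
    have h1 := Module.natCard_eq_pow_finrank (K := k) (V := Coh.HH C (Coh.structureModule C) 1)
    rw [hg] at h1
    exact (Nat.pow_right_injective Finite.one_lt_card h1).symm
  let σ := Spec.map (CommRingCat.ofHom (algebraMap k k'))
  let f' := pullback.snd f σ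
  letI : (pullback f σ).Over (Spec (CommRingCat.of k')) := ⟨f'⟩
  have hpb : IsPullback (pullback.fst f σ) ((pullback f σ) ↘ Spec (CommRingCat.of k'))
      (C ↘ Spec (CommRingCat.of k)) (Spec.map (CommRingCat.ofHom (algebraMap k k'))) := IsPullback.of_hasPullback f σ
  haveI : GeometricallyConnected (C ↘ Spec (CommRingCat.of k)) := ⟨fun L _ x Z a b hp =>
    haveI : IrreducibleSpace Z := GeometricallyIrreducible.geometrically_irreducibleSpace (f := f) x a b hp
    IrreducibleSpace.connectedSpace _⟩
  have h0 := CurveBC.finrank_h0_of_geometricallyConnected k C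
  have hC' : Curve.IsSmoothProperCurve k' (pullback f σ) f' :=
    ⟨CurveBC.isProper k k' _ hpb, CurveBC.smooth k k' _ hpb, CurveBC.isIntegral k k' _ hpb h0,
      CurveBC.topologicalKrullDim_eq k k' _ hpb hdim⟩
  have h := weil_bound f' hC'
  rw [ZetaLib.pointCount_baseChange f k' k'] at h
  have hgen' : Curv2.genus k' (pullback f σ) = g := (CurveBC.genus_eq k k' _ hpb).trans hgen
  rw [hgen'] at h
  haveI : Module.Finite k k' := Module.Finite.of_finite
  have hQ : Nat.card k' = Nat.card k ^ Module.finrank k k' := Module.natCard_eq_pow_finrank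
  have hR : ((SgaExt.pointCount f k' : ℝ) - ((Nat.card k : ℝ) ^ Module.finrank k k' + 1)) ^ 2 ≤
      (2 * g * (Nat.card k : ℝ) ^ ((Module.finrank k k' : ℝ) / 2)) ^ 2 := by
    have h' : ((SgaExt.pointCount f k' : ℝ) - (Nat.card k' : ℝ) - 1) ^ 2 ≤ 4 * (g : ℝ) ^ 2 * (Nat.card k' : ℝ) := by
      exact_mod_cast h
    have hs : ((Nat.card k : ℝ) ^ ((Module.finrank k k' : ℝ) / 2)) ^ 2 = (Nat.card k' : ℝ) := by
      rw [← Real.rpow_natCast _ 2, ← Real.rpow_mul (Nat.cast_nonneg _), hQ]
      push_cast
      rw [div_mul_cancel₀ _ two_ne_zero, Real.rpow_natCast]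
    rw [mul_pow, hs]
    rw [hQ] at h' ⊢
    push_cast at h' ⊢
    nlinarith
  exact abs_le_of_sq_le_sq hR (by positivity)

end Groth.Agent.SurfRR
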