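import Groth.Agent.SurfRR.Basic
import Groth.Agent.AmpleX.Generated
import Groth.Agent.CurveNondeg.Basic
import Groth.Agent.HilbPoly.Pos

/-!
# The Hodge index theorem on smooth projective surfaces
-/

set_option linter.style.haveILetI false
set_option linter.unusedSectionVars false
set_option backward.isDefEq.respectTransparency false
set_option backward.isDefEq.respectTransparency.types false
set_option maxHeartbeats 1000000

universe u

open CategoryTheory CategoryTheory.Limits AlgebraicGeometry TopologicalSpace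
open Groth.Agent.H23.PicMul
open scoped Groth.Agent.H23.PicMul

noncomputable section

namespace Groth.Agent.SurfRR

open Groth.Agent.IntSym

variable (k : Type u) [Field k] {X : Scheme.{u}} [X.Over (Spec (CommRingCat.of k))]
  [IsProper (X ↘ Spec (CommRingCat.of k))]

/-- Integer multiples in the first slot. -/
theorem exists_zmul (hd : topologicalKrullDim X ≤ ((2 : ℕ) : WithBot ℕ∞)) {L : X.Modules} (hL : PicF.IsInvertible L)
    (a : ℤ) : ∃ P : X.Modules, PicF.IsInvertible P ∧
      ∀ N, PicF.IsInvertible N → pair k P N = a * pair k L N := by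
  obtain ⟨L', hL', ⟨u⟩⟩ := H23.PicInv.exists_inverse hL
  cases a with
  | ofNat n => exact ⟨CohB1.tensorPow L n, InvX.isInvertible_tensorPow hL n, fun N hN => pair_pow k hd hL hN n⟩
  | negSucc n =>
    refine ⟨CohB1.tensorPow L' (n + 1), InvX.isInvertible_tensorPow hL' _, fun N hN => ?_⟩
    rw [pair_pow k hd hL' hN, pair_inverse k hd hL hL' u hN, Int.negSucc_eq]
    push_cast
    ring

/-- Integer combinations in the first slot. -/
theorem exists_comb (hd : topologicalKrullDim X ≤ ((2 : ℕ) : WithBot ℕ∞)) {L M : X.Modules}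
    (hL : PicF.IsInvertible L) (hM : PicF.IsInvertible M) (a b : ℤ) :
    ∃ P : X.Modules, PicF.IsInvertible P ∧
      ∀ N, PicF.IsInvertible N → pair k P N = a * pair k L N + b * pair k M N := by
  obtain ⟨P, hP, hPN⟩ := exists_zmul k hd hL a
  obtain ⟨Q, hQ, hQN⟩ := exists_zmul k hd hM b
  exact ⟨CohB1.tensorMod P Q, InvX.isInvertible_tensorMod hP hQ, fun N hN => by
    rw [pair_tensor k hd hP hQ hN, hPN N hN, hQN N hN]⟩

/-- The square of a combination. -/
theorem pair_comb_self {L M P : X.Modules} {a b : ℤ} (hL : PicF.IsInvertible L) (hM : PicF.IsInvertible M)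
    (hP : PicF.IsInvertible P) (h : ∀ N, PicF.IsInvertible N → pair k P N = a * pair k L N + b * pair k M N) :
    pair k P P = a ^ 2 * pair k L L + 2 * a * b * pair k L M + b ^ 2 * pair k M M := by
  rw [h P hP, pair_comm k hL hP, pair_comm k hM hP, h L hL, h M hM, pair_comm k hM hL]
  ring

variable [IsIntegral X] (hdim : topologicalKrullDim X = ((2 : ℕ) : WithBot ℕ∞))

include hdim in
/-- A module with a section meets ample modules non-negatively. -/
theorem pair_nonneg_of_section {M H : X.Modules} (hM : PicF.IsInvertible M) (hH : CohB1.IsAmple H)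
    (hsec : 0 < Module.finrank k (Coh.HH X M 0)) : 0 ≤ pair k M H := by
  haveI := CurveCohLib.isNoetherian_of_proper (k := k) (X := X)
  haveI : X.IsSeparated := AmpleVan.isSeparated_of_proper (A := k)
  obtain ⟨τ, hτ⟩ := VolLib.exists_section_of_pos (k := k) hsec
  let s : Coh.structureModule X ⟶ M := InvX.ofSect τ
  haveI := InvEnd.mono_of_ne_zero InvX.isInvertible_structureModule hM s (fun h0 => hτ (by
    rw [← InvX.one_ofSect τ]
    exact congrArg InvX.one h0))
  haveI := NakaiMo.isIso_stalk hM s
  have hηs : genericPoint X ∉ CohB1.support (cokernel s) := Snapper.notMem_support_cokernel s inferInstance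
  have hO : Coh.IsCoh (Coh.structureModule X) := QCoh.isCoh_structureModule'
  have hMc := AmpleVan.isCoh_invertible hM
  have hQ := QCoh.isCoh_cokernel hO.1 hMc s
  have hl : Inv [H] := List.forall_mem_singleton.2 hH.1
  have hS : (ShortComplex.mk s (cokernel.π s) (cokernel.condition s)).ShortExact :=
    .mk' (ShortComplex.exact_of_g_is_cokernel _ (cokernelIsCokernel s)) ‹_› inferInstance
  have hadd := (additive_sym k hl).add _ hS hO hMc hQ
  change sym k [H] M = sym k [H] (Coh.structureModule X) + sym k [H] (cokernel s) at hadd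
  have hQd : topologicalKrullDim ↥(CohB1.support (cokernel s)) < ((2 : ℕ) : WithBot ℕ∞) := hdim ▸
    H23.TopDim.dim_lt_of_ssubset (X := X) (by rw [hdim]; exact WithBot.coe_inj.not.2 (ENat.natCast_ne_top _))
      (QCoh.isClosed_support_of_isFT hQ.1 hQ.2) (fun h => hηs (h ▸ Set.mem_univ _))
  have hnn : 0 ≤ sym k [H] (cokernel s) :=
    (HilbPoly.mult_nonneg_and_pos k hH 1 _ hQ (HilbPoly.le_of_lt_succ hQd)).1
  obtain ⟨e⟩ : Nonempty ((AmpleVan.tw M).obj (Coh.structureModule X) ≅ M) := CurveSurface.nonempty_unit_tensor M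
  show 0 ≤ sym k [M, H] (Coh.structureModule X)
  rw [sym_cons, sym_iso k hl e]
  linarith

variable [Smooth (X ↘ Spec (CommRingCat.of k))]
  (hproj : ∃ (n : ℕ) (ι : X ⟶ CohB1.ProjSpace n k), IsClosedImmersion ι ∧
    ι ≫ CohB1.ProjSpace.toSpec n k = X ↘ Spec (CommRingCat.of k))

include hdim hproj in
/-- The second cohomology vanishes for large degree. -/
theorem subsingleton_h2 {W : X.Modules} (hW : ExtPow.IsExtPow 2 (Omega.sheaf (X ↘ Spec (CommRingCat.of k))) W)
    {H L : X.Modules} (hH : CohB1.IsAmple H) (hL : PicF.IsInvertible L) (h : pair k W H < pair k L H) :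
    Subsingleton (Coh.HH X L 2) := by
  haveI := CurveCohLib.isNoetherian_of_proper (k := k) (X := X)
  have hWi := isInvertible_canonical k hdim hproj hW
  obtain ⟨L', hL', ⟨u⟩⟩ := H23.PicInv.exists_inverse hL
  haveI := CurveCohLib.finite_HH (k := k) (AmpleVan.isCoh_invertible hL) 2
  refine (Module.finrank_zero_iff (R := k)).1 ?_
  rw [finrank_dual k hdim hproj hW hL u (q := 2) le_rfl]
  by_contra hne
  have hnn := pair_nonneg_of_section k hdim (InvX.isInvertible_tensorMod hWi hL') hH (Nat.pos_of_ne_zero hne)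
  rw [pair_tensor k hdim.le hWi hL' hH.1, pair_inverse k hdim.le hL hL' u hH.1] at hnn
  omega

include hdim hproj in
/-- Many sections of large powers. -/
theorem eventually_sections {H L : X.Modules} (hH : CohB1.IsAmple H) (hL : PicF.IsInvertible L)
    (hLH : 0 < pair k L H) (hLL : 0 < pair k L L) (C : ℕ) :
    ∃ N : ℕ, ∀ n : ℕ, N ≤ n → C < Module.finrank k (Coh.HH X (CohB1.tensorPow L n) 0) := by
  haveI := CurveCohLib.isNoetherian_of_proper (k := k) (X := X)
  obtain ⟨W, hW⟩ := exists_canonical k hdim
  have hWi := isInvertible_canonical k hdim hproj hW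
  set c := Curv2.euler k X (Coh.structureModule X)
  refine ⟨2 * C + 2 * c.natAbs + (pair k L W).natAbs + (pair k W H).natAbs + 1, fun n hn => ?_⟩
  have hLn := InvX.isInvertible_tensorPow hL n
  have h2 : Subsingleton (Coh.HH X (CohB1.tensorPow L n) 2) := by
    refine subsingleton_h2 k hdim hproj hW hH hLn ?_
    rw [pair_pow k hdim.le hL hH.1]
    calc pair k W H ≤ (pair k W H).natAbs := Int.le_natAbs
      _ < (n : ℤ) := by omega
      _ = n * 1 := (mul_one _).symm
      _ ≤ n * pair k L H := mul_le_mul_of_nonneg_left (by omega) (Int.natCast_nonneg n)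
  have hrr := riemann_roch k hdim hproj hW hLn
  rw [euler_three k hdim (AmpleVan.isCoh_invertible hLn).1, Module.finrank_zero_of_subsingleton (M := Coh.HH X _ 2),
    pair_pow k hdim.le hL hLn, pair_comm k hL hLn, pair_pow k hdim.le hL hL, pair_pow k hdim.le hL hWi] at hrr
  have h3 : (n : ℤ) * 1 ≤ n * pair k L L := mul_le_mul_of_nonneg_left (by omega) (Int.natCast_nonneg n)
  have h4 : (n : ℤ) * ((n : ℤ) - (pair k L W).natAbs) ≤ (n : ℤ) * (n * pair k L L - pair k L W) :=
    mul_le_mul_of_nonneg_left (by omega) (Int.natCast_nonneg n)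
  have h5 : (n : ℤ) * 1 ≥ 1 := by omega
  have h6 : (2 * C + 2 * c.natAbs + 1 : ℤ) * 1 ≤ ((n : ℤ) - (pair k L W).natAbs) * n :=
    mul_le_mul (by omega) (by omega) (by omega) (by omega)
  have h7 : (2 * C + 1 : ℤ) ≤ n * (n * pair k L L - pair k L W) + 2 * c := by
    have := Int.le_natAbs (a := -c)
    rw [Int.natAbs_neg] at this
    linarith
  push_cast at hrr
  have h8 : (2 * C + 1 : ℤ) ≤ 2 * (Module.finrank k (Coh.HH X (CohB1.tensorPow L n) 0) : ℤ) := by
    have := Int.natCast_nonneg (Module.finrank k (Coh.HH X (CohB1.tensorPow L n) 1))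
    linarith
  omega

include hdim hproj in
/-- The Hodge index theorem: orthogonal to an ample class the form is non-positive. -/
theorem index_ample {H L : X.Modules} (hH : CohB1.IsAmple H) (hL : PicF.IsInvertible L)
    (horth : pair k L H = 0) : pair k L L ≤ 0 := by
  haveI := CurveCohLib.isNoetherian_of_proper (k := k) (X := X)
  haveI : X.IsSeparated := AmpleVan.isSeparated_of_proper (A := k)
  by_contra hpos
  push Not at hpos
  obtain ⟨n₀, -, hn⟩ := AmpleX.eventually_ample_tensor hH hL
  have hA := (hn n₀ le_rfl).1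
  have hLA : 0 < pair k L (CohB1.tensorMod (CohB1.tensorPow H n₀) L) := by
    rw [pair_comm k hL hA.1, pair_tensor k hdim.le (InvX.isInvertible_tensorPow hH.1 n₀) hL hL,
      pair_pow k hdim.le hH.1 hL, pair_comm k hH.1 hL, horth]
    omega
  obtain ⟨N, hN⟩ := eventually_sections k hdim hproj hA hL hLA hpos (Module.finrank k (Coh.HH X (Coh.structureModule X) 0))
  have hreg : ∀ x : X, IsRegularLocalRing (X.presheaf.stalk x) :=
    GrpSchLib.isRegularLocalRing_stalk_of_smooth (X ↘ Spec (CommRingCat.of k))
  have h := CurveSurface.sym_pos_of_sections k hdim hreg (InvX.isInvertible_tensorPow hL N) hH (hN N le_rfl)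
  change 0 < pair k (CohB1.tensorPow L N) H at h
  rw [pair_pow k hdim.le hL hH.1, horth, mul_zero] at h
  exact lt_irrefl _ h

theorem pair_self_pos {H : X.Modules} (hH : CohB1.IsAmple H) (hdim : topologicalKrullDim X = ((2 : ℕ) : WithBot ℕ∞)) :
    0 < pair k H H := by
  haveI := CurveCohLib.isNoetherian_of_proper (k := k) (X := X)
  show 0 < sym k (List.replicate 2 H) (Coh.structureModule X)
  rw [sym_replicate]
  have h := BigMono.dim_support_structure (X := X)
  exact (HilbPoly.mult_nonneg_and_pos k hH 2 _ QCoh.isCoh_structureModule' (h.trans hdim).le).2 (h.trans hdim)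

include hdim hproj in
/-- The index inequality. -/
theorem index_le {H D : X.Modules} (hH : CohB1.IsAmple H) (hD : PicF.IsInvertible D) :
    pair k D D * pair k H H ≤ pair k D H ^ 2 := by
  obtain ⟨P, hP, h⟩ := exists_comb k hdim.le hD hH.1 (pair k H H) (-pair k D H)
  have h0 : pair k P H = 0 := by rw [h H hH.1]; ring
  have h1 := index_ample k hdim hproj hH hP h0
  rw [pair_comb_self k hD hH.1 hP h] at h1
  have hpos := pair_self_pos k hH hdim
  by_contra hlt
  push Not at hlt
  have := mul_pos hpos (sub_pos.2 hlt)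
  nlinarith

include hdim hproj in
/-- The form is negative semi-definite orthogonal to any class of positive square. -/
theorem index_pos {H L M : X.Modules} (hH : CohB1.IsAmple H) (hL : PicF.IsInvertible L) (hM : PicF.IsInvertible M)
    (hpos : 0 < pair k L L) (horth : pair k L M = 0) : pair k M M ≤ 0 := by
  have hLH : pair k L H ≠ 0 := fun h => not_lt.2 (index_ample k hdim hproj hH hL h) hpos
  obtain ⟨P, hP, h⟩ := exists_comb k hdim.le hM hL (pair k L H) (-pair k M H)
  have h0 : pair k P H = 0 := by rw [h H hH.1]; ring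
  have h1 := index_ample k hdim hproj hH hP h0
  rw [pair_comb_self k hM hL hP h, pair_comm k hM hL, horth] at h1
  have h2 : 0 < pair k L H ^ 2 := by positivity
  by_contra hlt
  push Not at hlt
  have := mul_pos h2 hlt
  have h3 : 0 ≤ (-pair k M H) ^ 2 * pair k L L := mul_nonneg (sq_nonneg _) hpos.le
  nlinarith

include hdim hproj in
/-- Orthogonal to an ample class with zero square is orthogonal to everything. -/
theorem pair_eq_zero {H L : X.Modules} (hH : CohB1.IsAmple H) (hL : PicF.IsInvertible L)
    (horth : pair k L H = 0) (hLL : pair k L L = 0) {N : X.Modules} (hN : PicF.IsInvertible N) : pair k L N = 0 := by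
  have hpos := pair_self_pos k hH hdim
  obtain ⟨N', hN', h⟩ := exists_comb k hdim.le hN hH.1 (pair k H H) (-pair k N H)
  have hN'H : pair k N' H = 0 := by rw [h H hH.1]; ring
  have hLN' : pair k L N' = pair k H H * pair k L N := by
    rw [pair_comm k hL hN', h L hL, pair_comm k hN hL, pair_comm k hH.1 hL, horth]; ring
  suffices pair k L N' = 0 from (mul_eq_zero.1 (hLN' ▸ this)).resolve_left hpos.ne'
  have key : ∀ t : ℤ, 2 * t * pair k L N' + pair k N' N' ≤ 0 := fun t => by
    obtain ⟨P, hP, hPN⟩ := exists_comb k hdim.le hL hN' t 1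
    have h1 := index_ample k hdim hproj hH hP (by rw [hPN H hH.1, horth, hN'H]; ring)
    rw [pair_comb_self k hL hN' hP hPN, hLL] at h1
    linarith
  by_contra hne
  have h1 := key (pair k L N' * ((pair k N' N').natAbs + 1))
  have h2 : (1 : ℤ) ≤ pair k L N' * pair k L N' := mul_self_pos.2 hne
  have h3 := Int.le_natAbs (a := -pair k N' N')
  rw [Int.natAbs_neg] at h3
  have h4 : ((pair k N' N').natAbs + 1 : ℤ) * 1 ≤ ((pair k N' N').natAbs + 1 : ℤ) * (pair k L N' * pair k L N') :=
    mul_le_mul_of_nonneg_left h2 (by positivity)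
  linarith

end Groth.Agent.SurfRR
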