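import Groth.Agent.SurfRR.Proj
import Groth.Agent.SurfRR.Curve
import Groth.Agent.JacSepPts.Points
import Groth.Agent.H23.KLBasic
import Groth.Agent.S1582
import Groth.Agent.S4643
import Groth.Agent.FComplLib.IdealComap

/-!
# The Castelnuovo–Severi inequality on a product of two curves
-/

set_option autoImplicit false
set_option linter.style.haveILetI false
set_option linter.unusedSectionVars false
set_option backward.isDefEq.respectTransparency false
set_option backward.isDefEq.respectTransparency.types false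
set_option maxHeartbeats 1000000

universe u

open CategoryTheory CategoryTheory.Limits AlgebraicGeometry TopologicalSpace

noncomputable section

namespace Groth.Agent.SurfRR

open Groth.Agent.IntSym (sym)

variable (k : Type u) [Field k] [IsAlgClosed k]

/-- Modules pulled back from a point have degree zero. -/
theorem deg_pullback_point {C : Scheme.{u}} [C.Over (Spec (CommRingCat.of k))]
    [IsProper (C ↘ Spec (CommRingCat.of k))] [IsIntegral C] {A : (Spec (CommRingCat.of k)).Modules}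
    (hA : PicF.IsInvertible A) :
    Curv2.deg k C ((Scheme.Modules.pullback (C ↘ Spec (CommRingCat.of k))).obj A) 1 = 0 := by
  haveI : Subsingleton (Spec (CommRingCat.of k)) := inferInstanceAs (Subsingleton (PrimeSpectrum k))
  haveI : Nonempty (Spec (CommRingCat.of k)) := inferInstanceAs (Nonempty (PrimeSpectrum k))
  obtain ⟨e⟩ := (H23.PicMul.cl_eq_iff (B := Coh.structureModule (Spec (CommRingCat.of k)))).1 (H23.KLBasic.trivial_of_subsingleton hA)
  obtain ⟨e'⟩ := PicClLib.nonempty_pullback_structureModule (C ↘ Spec (CommRingCat.of k))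
  rw [CurveRR.deg_congr k ((Scheme.Modules.pullback (C ↘ Spec (CommRingCat.of k))).mapIso e ≪≫ e') 1]
  simp [Curv2.deg]

section Fibre

variable {X : Scheme.{u}} [X.Over (Spec (CommRingCat.of k))] [IsProper (X ↘ Spec (CommRingCat.of k))] [IsIntegral X]
  [Smooth (X ↘ Spec (CommRingCat.of k))]

/-- The pairing with the ideal of an embedded curve is minus the degree of the restriction. -/
theorem pair_curve (hdim : topologicalKrullDim X = ((2 : ℕ) : WithBot ℕ∞))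
    {C : Scheme.{u}} [C.Over (Spec (CommRingCat.of k))] [IsIntegral C] (hC : topologicalKrullDim C = 1)
    (i : C ⟶ X) [IsClosedImmersion i] (hi : i ≫ X ↘ Spec (CommRingCat.of k) = C ↘ Spec (CommRingCat.of k))
    {M : X.Modules} (hM : PicF.IsInvertible M) :
    pair k (ClSub.idealMod i.ker) M = - Curv2.deg k C ((Scheme.Modules.pullback i).obj M) 1 := by
  haveI := CurveCohLib.isNoetherian_of_proper (k := k) (X := X)
  have hc := IntSym.CurveSurface.isEffCartier_ker k hdim (regular_of_smooth k) i (by rw [hC, Nat.cast_one])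
  obtain ⟨eq⟩ := IntSym.CurveSurface.nonempty_quotMod_iso k i
  have h := AffCompl.dg_eq_deg k i hM
  rw [pair_idealMod k hdim hc hM, ← IntSym.sym_iso k (List.forall_mem_singleton.2 hM) eq]
  refine congrArg Neg.neg (h.trans ?_)
  congr

/-- A fibre `i : C → X` of `p : X → D` over a rational point of a smooth curve `D`. -/
theorem fibre_pairs (hdim : topologicalKrullDim X = ((2 : ℕ) : WithBot ℕ∞))
    {C D : Scheme.{u}} [C.Over (Spec (CommRingCat.of k))] [D.Over (Spec (CommRingCat.of k))]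
    [IsProper (C ↘ Spec (CommRingCat.of k))] [IsIntegral C] (hC : topologicalKrullDim C = 1)
    [IsProper (D ↘ Spec (CommRingCat.of k))] [IsIntegral D] [Smooth (D ↘ Spec (CommRingCat.of k))]
    (hD : topologicalKrullDim D = 1)
    (p : X ⟶ D) (i : C ⟶ X) [IsClosedImmersion i] (hi : i ≫ X ↘ Spec (CommRingCat.of k) = C ↘ Spec (CommRingCat.of k))
    {y : Spec (CommRingCat.of k) ⟶ D} (hy : y ≫ D ↘ Spec (CommRingCat.of k) = 𝟙 _)
    (sq : IsPullback i (C ↘ Spec (CommRingCat.of k)) p y) :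
    PicF.IsInvertible (ClSub.idealMod i.ker) ∧
      Nonempty ((Scheme.Modules.pullback p).obj (ClSub.idealMod y.ker) ≅ ClSub.idealMod i.ker) ∧
      pair k (ClSub.idealMod i.ker) (ClSub.idealMod i.ker) = 0 ∧
      ∀ M : X.Modules, PicF.IsInvertible M →
        pair k (ClSub.idealMod i.ker) M = - Curv2.deg k C ((Scheme.Modules.pullback i).obj M) 1 := by
  haveI := CurveCohLib.isNoetherian_of_proper (k := k) (X := X)
  haveI : IsClosedImmersion y := isClosedImmersion_of_comp_eq_id _ _ hy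
  have hC' : topologicalKrullDim C = ((1 : ℕ) : WithBot ℕ∞) := by rw [hC, Nat.cast_one]
  have hc := IntSym.CurveSurface.isEffCartier_ker k hdim (regular_of_smooth k) i hC'
  have hI := (S8914.result i.ker).2 hc
  have hIy := JacSepPts.isInvertible_ker_section k hD hy
  have hker : i.ker = y.ker.comap p := FComplLib.ker_of_isPullback sq
  obtain ⟨e⟩ := CurveAlgEqLib.nonempty_pullback_idealMod p hIy (hker ▸ hI)
  obtain ⟨eI⟩ : Nonempty ((Scheme.Modules.pullback p).obj (ClSub.idealMod y.ker) ≅ ClSub.idealMod i.ker) :=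
    ⟨e ≪≫ eqToIso (by rw [hker])⟩
  have hval := fun M (hM : PicF.IsInvertible M) => pair_curve k hdim hC i hi hM
  refine ⟨hI, ⟨eI⟩, ?_, hval⟩
  rw [hval _ hI, neg_eq_zero, CurveRR.deg_congr k ((Scheme.Modules.pullback i).mapIso eI.symm ≪≫
    (Scheme.Modules.pullbackComp i p).app _ ≪≫ (Scheme.Modules.pullbackCongr sq.w).app _ ≪≫
    ((Scheme.Modules.pullbackComp (C ↘ Spec (CommRingCat.of k)) y).app _).symm) 1]
  exact deg_pullback_point k (PicClLib.isInvertible_pullback y hIy)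

end Fibre

variable {X : Scheme.{u}} [X.Over (Spec (CommRingCat.of k))] [IsProper (X ↘ Spec (CommRingCat.of k))] [IsIntegral X]
  [Smooth (X ↘ Spec (CommRingCat.of k))] (hdim : topologicalKrullDim X = ((2 : ℕ) : WithBot ℕ∞))

include hdim in
/-- Two classes with zero squares and product one bound the form. -/
theorem castelnuovo_severi {N₁ N₂ : X.Modules} (h₁ : PicF.IsInvertible N₁) (h₂ : PicF.IsInvertible N₂)
    (h11 : pair k N₁ N₁ = 0) (h22 : pair k N₂ N₂ = 0) (h12 : pair k N₁ N₂ = 1)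
    {M M' : X.Modules} (hM : PicF.IsInvertible M) (hM' : PicF.IsInvertible M') :
    pair k M M ≤ 2 * pair k N₁ M * pair k N₂ M ∧
      (pair k M M' - pair k N₁ M * pair k N₂ M' - pair k N₂ M * pair k N₁ M') ^ 2 ≤
        (2 * pair k N₁ M * pair k N₂ M - pair k M M) * (2 * pair k N₁ M' * pair k N₂ M' - pair k M' M') := by
  obtain ⟨H, hH⟩ := exists_ample k hdim (regular_of_smooth (X := X) k)
  have hproj := exists_proj_smooth (X := X) k hdim
  have h21 : pair k N₂ N₁ = 1 := (pair_comm k h₂ h₁).trans h12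
  obtain ⟨P, hP, hPe⟩ := exists_comb k hdim.le h₁ h₂ 1 1
  have hPP : pair k P P = 2 := by
    rw [pair_comb_self k h₁ h₂ hP hPe, h11, h22, h12]; ring
  -- the projection off the plane of the two classes
  have proj : ∀ {A : X.Modules}, PicF.IsInvertible A → ∃ A' : X.Modules, PicF.IsInvertible A' ∧
      ∀ B, PicF.IsInvertible B → pair k A' B = pair k A B - pair k N₂ A * pair k N₁ B - pair k N₁ A * pair k N₂ B := by
    intro A hA
    obtain ⟨Q, hQ, hQe⟩ := exists_comb k hdim.le h₁ h₂ (- pair k N₂ A) (- pair k N₁ A)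
    obtain ⟨A', hA', hA'e⟩ := exists_comb k hdim.le hA hQ 1 1
    exact ⟨A', hA', fun B hB => by rw [hA'e B hB, hQe B hB]; ring⟩
  obtain ⟨A, hA, hAe⟩ := proj hM
  obtain ⟨A', hA', hA'e⟩ := proj hM'
  have orth₁ : ∀ {A M : X.Modules}, PicF.IsInvertible M → (∀ B, PicF.IsInvertible B → pair k A B =
      pair k M B - pair k N₂ M * pair k N₁ B - pair k N₁ M * pair k N₂ B) → PicF.IsInvertible A →
      pair k A N₁ = 0 ∧ pair k A N₂ = 0 := fun {A M} hM he _ => by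
    constructor
    · rw [he _ h₁, h11, h21, pair_comm k hM h₁]; ring
    · rw [he _ h₂, h12, h22, pair_comm k hM h₂]; ring
  obtain ⟨a1, a2⟩ := orth₁ hM hAe hA
  obtain ⟨b1, b2⟩ := orth₁ hM' hA'e hA'
  have key : ∀ s t : ℤ, s ^ 2 * pair k A A + 2 * s * t * pair k A A' + t ^ 2 * pair k A' A' ≤ 0 := fun s t => by
    obtain ⟨R, hR, hRe⟩ := exists_comb k hdim.le hA hA' s t
    have h := index_pos k hdim hproj hH hP hR (by omega) (by
      rw [hPe R hR, pair_comm k h₁ hR, pair_comm k h₂ hR, hRe _ h₁, hRe _ h₂, a1, a2, b1, b2]; ring)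
    rw [pair_comb_self k hA hA' hR hRe] at h
    linarith
  have hAA : pair k A A = pair k M M - 2 * pair k N₁ M * pair k N₂ M := by
    rw [hAe A hA, pair_comm k h₁ hA, pair_comm k h₂ hA, a1, a2, pair_comm k hM hA, hAe M hM]; ring
  have hBB : pair k A' A' = pair k M' M' - 2 * pair k N₁ M' * pair k N₂ M' := by
    rw [hA'e A' hA', pair_comm k h₁ hA', pair_comm k h₂ hA', b1, b2, pair_comm k hM' hA', hA'e M' hM']; ring
  have hAB : pair k A A' = pair k M M' - pair k N₁ M * pair k N₂ M' - pair k N₂ M * pair k N₁ M' := by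
    rw [hAe A' hA', pair_comm k h₁ hA', pair_comm k h₂ hA', b1, b2, pair_comm k hM hA', hA'e M hM,
      pair_comm k hM' hM]; ring
  have ha : pair k A A ≤ 0 := by simpa using key 1 0
  refine ⟨by omega, ?_⟩
  rw [← hAB, show 2 * pair k N₁ M * pair k N₂ M - pair k M M = - pair k A A by omega,
    show 2 * pair k N₁ M' * pair k N₂ M' - pair k M' M' = - pair k A' A' by omega, neg_mul_neg]
  have hk := key (pair k A A') (- pair k A A)
  rcases ha.eq_or_lt with h0 | hlt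
  · rw [h0, zero_mul]
    have h := key (pair k A A' * ((pair k A' A').natAbs + 1)) 1
    rw [h0] at h
    have h3 := neg_abs_le (pair k A' A')
    rw [Int.abs_eq_natAbs] at h3
    nlinarith [sq_nonneg (pair k A A')]
  · by_contra hc
    push Not at hc
    nlinarith [mul_pos (neg_pos.2 hlt) (sub_pos.2 hc)]

/-- The two fibre classes on a product, as pullbacks of points. -/
theorem exists_prod_classes_iso (C₁ C₂ : Scheme.{u}) [C₁.Over (Spec (CommRingCat.of k))]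
    [C₂.Over (Spec (CommRingCat.of k))]
    (h₁ : Curve.IsSmoothProperCurve k C₁ (C₁ ↘ Spec (CommRingCat.of k)))
    (h₂ : Curve.IsSmoothProperCurve k C₂ (C₂ ↘ Spec (CommRingCat.of k)))
    (x : Spec (CommRingCat.of k) ⟶ C₁) (hx : x ≫ (C₁ ↘ Spec (CommRingCat.of k)) = 𝟙 _)
    (y : Spec (CommRingCat.of k) ⟶ C₂) (hy : y ≫ (C₂ ↘ Spec (CommRingCat.of k)) = 𝟙 _)
    (i₁ : C₁ ⟶ pullback (C₁ ↘ Spec (CommRingCat.of k)) (C₂ ↘ Spec (CommRingCat.of k)))
    (hi₁ : i₁ ≫ pullback.fst _ _ = 𝟙 C₁ ∧ i₁ ≫ pullback.snd _ _ = (C₁ ↘ Spec (CommRingCat.of k)) ≫ y)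
    (i₂ : C₂ ⟶ pullback (C₁ ↘ Spec (CommRingCat.of k)) (C₂ ↘ Spec (CommRingCat.of k)))
    (hi₂ : i₂ ≫ pullback.snd _ _ = 𝟙 C₂ ∧ i₂ ≫ pullback.fst _ _ = (C₂ ↘ Spec (CommRingCat.of k)) ≫ x) :
    letI : (pullback (C₁ ↘ Spec (CommRingCat.of k)) (C₂ ↘ Spec (CommRingCat.of k))).Over
        (Spec (CommRingCat.of k)) := ⟨pullback.fst _ _ ≫ (C₁ ↘ Spec (CommRingCat.of k))⟩
    IsProper (pullback (C₁ ↘ Spec (CommRingCat.of k)) (C₂ ↘ Spec (CommRingCat.of k)) ↘ Spec (CommRingCat.of k)) ∧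
    Smooth (pullback (C₁ ↘ Spec (CommRingCat.of k)) (C₂ ↘ Spec (CommRingCat.of k)) ↘ Spec (CommRingCat.of k)) ∧
    IsIntegral (pullback (C₁ ↘ Spec (CommRingCat.of k)) (C₂ ↘ Spec (CommRingCat.of k))) ∧
    topologicalKrullDim ↥(pullback (C₁ ↘ Spec (CommRingCat.of k)) (C₂ ↘ Spec (CommRingCat.of k))) = ((2 : ℕ) : WithBot ℕ∞) ∧
    ∃ N₁ N₂ : (pullback (C₁ ↘ Spec (CommRingCat.of k)) (C₂ ↘ Spec (CommRingCat.of k))).Modules,
      PicF.IsInvertible N₁ ∧ PicF.IsInvertible N₂ ∧ pair k N₁ N₁ = 0 ∧ pair k N₂ N₂ = 0 ∧ pair k N₁ N₂ = 1 ∧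
      (∀ M, PicF.IsInvertible M →
        pair k N₁ M = - Curv2.deg k C₁ ((Scheme.Modules.pullback i₁).obj M) 1 ∧
        pair k N₂ M = - Curv2.deg k C₂ ((Scheme.Modules.pullback i₂).obj M) 1) ∧
      Nonempty ((Scheme.Modules.pullback (pullback.snd (C₁ ↘ Spec (CommRingCat.of k)) (C₂ ↘ Spec (CommRingCat.of k)))).obj
        (ClSub.idealMod y.ker) ≅ N₁) ∧
      Nonempty ((Scheme.Modules.pullback (pullback.fst (C₁ ↘ Spec (CommRingCat.of k)) (C₂ ↘ Spec (CommRingCat.of k)))).obj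
        (ClSub.idealMod x.ker) ≅ N₂) := by
  obtain ⟨p₁, s₁, n₁, d₁⟩ := h₁
  obtain ⟨p₂, s₂, n₂, d₂⟩ := h₂
  letI : (pullback (C₁ ↘ Spec (CommRingCat.of k)) (C₂ ↘ Spec (CommRingCat.of k))).Over
      (Spec (CommRingCat.of k)) := ⟨pullback.fst _ _ ≫ (C₁ ↘ Spec (CommRingCat.of k))⟩
  have hpr : IsProper (pullback (C₁ ↘ Spec (CommRingCat.of k)) (C₂ ↘ Spec (CommRingCat.of k)) ↘ Spec (CommRingCat.of k)) := inferInstanceAs (IsProper (pullback.fst (C₁ ↘ Spec (CommRingCat.of k)) (C₂ ↘ Spec (CommRingCat.of k)) ≫ (C₁ ↘ Spec (CommRingCat.of k))))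
  have hsm : Smooth (pullback (C₁ ↘ Spec (CommRingCat.of k)) (C₂ ↘ Spec (CommRingCat.of k)) ↘ Spec (CommRingCat.of k)) := inferInstanceAs (Smooth (pullback.fst (C₁ ↘ Spec (CommRingCat.of k)) (C₂ ↘ Spec (CommRingCat.of k)) ≫ (C₁ ↘ Spec (CommRingCat.of k))))
  have hint : IsIntegral (pullback (C₁ ↘ Spec (CommRingCat.of k)) (C₂ ↘ Spec (CommRingCat.of k))) := S1582.result k C₁ C₂ (C₁ ↘ Spec (CommRingCat.of k)) (C₂ ↘ Spec (CommRingCat.of k))
  have hd : topologicalKrullDim ↥(pullback (C₁ ↘ Spec (CommRingCat.of k)) (C₂ ↘ Spec (CommRingCat.of k))) = ((2 : ℕ) : WithBot ℕ∞) := by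
    rw [S4643.result (C₁ ↘ Spec (CommRingCat.of k)) (C₂ ↘ Spec (CommRingCat.of k)), d₁, d₂]; rfl
  refine ⟨hpr, hsm, hint, hd, ?_⟩
  have q₁ : IsPullback i₁ (C₁ ↘ Spec (CommRingCat.of k)) (pullback.snd (C₁ ↘ Spec (CommRingCat.of k)) (C₂ ↘ Spec (CommRingCat.of k))) y := by
    refine IsPullback.of_right ?_ hi₁.2 (IsPullback.of_hasPullback (C₁ ↘ Spec (CommRingCat.of k)) (C₂ ↘ Spec (CommRingCat.of k)))
    rw [hi₁.1, hy]
    exact IsPullback.of_horiz_isIso ⟨by simp⟩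
  have q₂ : IsPullback i₂ (C₂ ↘ Spec (CommRingCat.of k)) (pullback.fst (C₁ ↘ Spec (CommRingCat.of k)) (C₂ ↘ Spec (CommRingCat.of k))) x := by
    refine IsPullback.of_right ?_ hi₂.2 (IsPullback.of_hasPullback (C₁ ↘ Spec (CommRingCat.of k)) (C₂ ↘ Spec (CommRingCat.of k))).flip
    rw [hi₂.1, hx]
    exact IsPullback.of_horiz_isIso ⟨by simp⟩
  haveI : IsClosedImmersion i₁ := haveI : IsClosedImmersion (i₁ ≫ pullback.fst (C₁ ↘ Spec (CommRingCat.of k)) (C₂ ↘ Spec (CommRingCat.of k))) := hi₁.1 ▸ inferInstance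
    IsClosedImmersion.of_comp i₁ (pullback.fst (C₁ ↘ Spec (CommRingCat.of k)) (C₂ ↘ Spec (CommRingCat.of k)))
  haveI : IsClosedImmersion i₂ := haveI : IsClosedImmersion (i₂ ≫ pullback.snd (C₁ ↘ Spec (CommRingCat.of k)) (C₂ ↘ Spec (CommRingCat.of k))) := hi₂.1 ▸ inferInstance
    IsClosedImmersion.of_comp i₂ (pullback.snd (C₁ ↘ Spec (CommRingCat.of k)) (C₂ ↘ Spec (CommRingCat.of k)))
  have o₁ : i₁ ≫ (pullback (C₁ ↘ Spec (CommRingCat.of k)) (C₂ ↘ Spec (CommRingCat.of k)) ↘ Spec (CommRingCat.of k)) = (C₁ ↘ Spec (CommRingCat.of k)) :=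
    (Category.assoc _ _ _).symm.trans (by rw [hi₁.1, Category.id_comp])
  have o₂ : i₂ ≫ (pullback (C₁ ↘ Spec (CommRingCat.of k)) (C₂ ↘ Spec (CommRingCat.of k)) ↘ Spec (CommRingCat.of k)) = (C₂ ↘ Spec (CommRingCat.of k)) := by
    show i₂ ≫ pullback.fst (C₁ ↘ Spec (CommRingCat.of k)) (C₂ ↘ Spec (CommRingCat.of k)) ≫ (C₁ ↘ Spec (CommRingCat.of k)) = (C₂ ↘ Spec (CommRingCat.of k))
    rw [pullback.condition, ← Category.assoc, hi₂.1, Category.id_comp]
  obtain ⟨a, ea, a0, aM⟩ := fibre_pairs k hd d₁ d₂ (pullback.snd (C₁ ↘ Spec (CommRingCat.of k)) (C₂ ↘ Spec (CommRingCat.of k))) i₁ o₁ hy q₁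
  obtain ⟨b, ⟨eb⟩, b0, bM⟩ := fibre_pairs k hd d₂ d₁ (pullback.fst (C₁ ↘ Spec (CommRingCat.of k)) (C₂ ↘ Spec (CommRingCat.of k))) i₂ o₂ hx q₂
  refine ⟨_, _, a, b, a0, b0, ?_, fun M hM => ⟨aM M hM, bM M hM⟩, ea, ⟨eb⟩⟩
  rw [aM _ b, CurveRR.deg_congr k ((Scheme.Modules.pullback i₁).mapIso eb.symm ≪≫
    (Scheme.Modules.pullbackComp i₁ (pullback.fst (C₁ ↘ Spec (CommRingCat.of k)) (C₂ ↘ Spec (CommRingCat.of k)))).app _ ≪≫ (Scheme.Modules.pullbackCongr hi₁.1).app _ ≪≫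
    (Scheme.Modules.pullbackId C₁).app _) 1]
  haveI := s₁; haveI := n₁; haveI := p₁
  obtain ⟨hp, hker, -⟩ := CurveEmbed.section_point k x hx
  rw [hker]
  exact neg_eq_iff_eq_neg.2 (CurvePoint.deg_ptMod _ hp k)

/-- The two fibre classes on a product. -/
theorem exists_prod_classes (C₁ C₂ : Scheme.{u}) [C₁.Over (Spec (CommRingCat.of k))]
    [C₂.Over (Spec (CommRingCat.of k))]
    (h₁ : Curve.IsSmoothProperCurve k C₁ (C₁ ↘ Spec (CommRingCat.of k)))
    (h₂ : Curve.IsSmoothProperCurve k C₂ (C₂ ↘ Spec (CommRingCat.of k)))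
    (x : Spec (CommRingCat.of k) ⟶ C₁) (hx : x ≫ (C₁ ↘ Spec (CommRingCat.of k)) = 𝟙 _)
    (y : Spec (CommRingCat.of k) ⟶ C₂) (hy : y ≫ (C₂ ↘ Spec (CommRingCat.of k)) = 𝟙 _)
    (i₁ : C₁ ⟶ pullback (C₁ ↘ Spec (CommRingCat.of k)) (C₂ ↘ Spec (CommRingCat.of k)))
    (hi₁ : i₁ ≫ pullback.fst _ _ = 𝟙 C₁ ∧ i₁ ≫ pullback.snd _ _ = (C₁ ↘ Spec (CommRingCat.of k)) ≫ y)
    (i₂ : C₂ ⟶ pullback (C₁ ↘ Spec (CommRingCat.of k)) (C₂ ↘ Spec (CommRingCat.of k)))
    (hi₂ : i₂ ≫ pullback.snd _ _ = 𝟙 C₂ ∧ i₂ ≫ pullback.fst _ _ = (C₂ ↘ Spec (CommRingCat.of k)) ≫ x) :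
    letI : (pullback (C₁ ↘ Spec (CommRingCat.of k)) (C₂ ↘ Spec (CommRingCat.of k))).Over
        (Spec (CommRingCat.of k)) := ⟨pullback.fst _ _ ≫ (C₁ ↘ Spec (CommRingCat.of k))⟩
    IsProper (pullback (C₁ ↘ Spec (CommRingCat.of k)) (C₂ ↘ Spec (CommRingCat.of k)) ↘ Spec (CommRingCat.of k)) ∧
    Smooth (pullback (C₁ ↘ Spec (CommRingCat.of k)) (C₂ ↘ Spec (CommRingCat.of k)) ↘ Spec (CommRingCat.of k)) ∧
    IsIntegral (pullback (C₁ ↘ Spec (CommRingCat.of k)) (C₂ ↘ Spec (CommRingCat.of k))) ∧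
    topologicalKrullDim ↥(pullback (C₁ ↘ Spec (CommRingCat.of k)) (C₂ ↘ Spec (CommRingCat.of k))) = ((2 : ℕ) : WithBot ℕ∞) ∧
    ∃ N₁ N₂ : (pullback (C₁ ↘ Spec (CommRingCat.of k)) (C₂ ↘ Spec (CommRingCat.of k))).Modules,
      PicF.IsInvertible N₁ ∧ PicF.IsInvertible N₂ ∧ pair k N₁ N₁ = 0 ∧ pair k N₂ N₂ = 0 ∧ pair k N₁ N₂ = 1 ∧
      ∀ M, PicF.IsInvertible M →
        pair k N₁ M = - Curv2.deg k C₁ ((Scheme.Modules.pullback i₁).obj M) 1 ∧
        pair k N₂ M = - Curv2.deg k C₂ ((Scheme.Modules.pullback i₂).obj M) 1 := by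
  obtain ⟨hp, hs, hi, hd, N₁, N₂, a, b, c, e, f, g, -, -⟩ :=
    exists_prod_classes_iso k C₁ C₂ h₁ h₂ x hx y hy i₁ hi₁ i₂ hi₂
  exact ⟨hp, hs, hi, hd, N₁, N₂, a, b, c, e, f, g⟩

end Groth.Agent.SurfRR
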