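import Groth.Agent.SurfRR.Basic
import Groth.Agent.S10934
import Groth.Agent.ExtShX.DualX
import Groth.Agent.VarDim.IrredFibres

/-!
# Riemann–Roch on Cohen–Macaulay projective surfaces with invertible dualizing sheaf
-/

set_option linter.style.haveILetI false
set_option linter.unusedSectionVars false
set_option backward.isDefEq.respectTransparency false
set_option backward.isDefEq.respectTransparency.types false
set_option maxHeartbeats 1000000

universe u

open CategoryTheory CategoryTheory.Limits AlgebraicGeometry TopologicalSpace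
open Groth.Agent.H23.PicMul
open scoped Groth.Agent.H23.PicMul
attribute [local instance] HasDerivedCategory.standard

noncomputable section

namespace Groth.Agent.SurfRR

variable (k : Type u) [Field k] {X : Scheme.{u}} [X.Over (Spec (CommRingCat.of k))]
  [IsProper (X ↘ Spec (CommRingCat.of k))] [IsIntegral X]

include k in
/-- Riemann–Roch with a dualizing sheaf. -/
theorem riemann_roch_dualizing (hdim : topologicalKrullDim X = ((2 : ℕ) : WithBot ℕ∞)) {N : ℕ}
    (ι : X ⟶ CohB1.ProjSpace N k) [IsClosedImmersion ι]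
    (hι : ι ≫ CohB1.ProjSpace.toSpec N k = X ↘ Spec (CommRingCat.of k))
    (hCM : ∀ x : X, IsClosed ({x} : Set X) → LocCoh.IsCohenMacaulayLocalRing (X.presheaf.stalk x))
    {ω : X.Modules} (hω : Coh.IsCoh ω) (hωi : PicF.IsInvertible ω) (t : Coh.HH X ω 2 →ₗ[k] k)
    (hdual : ∀ F : X.Modules, Coh.IsCoh F → ∀ ψ : Coh.HH X F 2 →ₗ[k] k,
        ∃! φ : F ⟶ ω, ∀ x : Coh.HH X F 2,
          ψ x = t (Sheaf.H.map ((SheafOfModules.toSheaf X.ringCatSheaf).map φ) 2 x))
    {L : X.Modules} (hL : PicF.IsInvertible L) :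
    2 * Curv2.euler k X L = pair k L L - pair k L ω + 2 * Curv2.euler k X (Coh.structureModule X) := by
  classical
  haveI := CurveCohLib.isNoetherian_of_proper (k := k) (X := X)
  haveI : X.IsSeparated := AmpleVan.isSeparated_of_proper (A := k)
  haveI : HasExt.{u} X.Modules := IsGrothendieckAbelian.hasExt _
  let f := X ↘ Spec (CommRingCat.of k)
  have hη : VarDim.deg f (genericPoint ↥X) = 2 := by
    have h := VarDim.topologicalKrullDim_eq_deg_genericPoint f
    rw [hdim] at h
    exact ENat.natCast_inj.1 (WithBot.coe_inj.1 h.symm)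
  have hclosed : ∀ x : X, IsClosed ({x} : Set ↥X) →
      LocCoh.IsCohenMacaulayLocalRing (X.presheaf.stalk x) ∧ ringKrullDim (X.presheaf.stalk x) = ((2 : ℕ) : WithBot ℕ∞) := fun x hx => by
    refine ⟨hCM x hx, ?_⟩
    obtain ⟨b, hb, ⟨η, hη', hηd⟩, hmax⟩ := VarDim.exists_deg_add_stalk f x
    have h0 := (VarDim.closedPoint_iff_deg_eq_zero f x).1 hx
    have h1 : VarDim.deg f η ≤ 2 := hη ▸ VarDim.deg_le_of_specializes f (genericPoint_specializes η)
    have h2 := hmax (genericPoint ↥X) (genericPoint_specializes x)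
    rw [hη] at h2
    rw [hb, show b = 2 by omega]
  obtain ⟨q₀, hq⟩ := (S10934.result k N 2 ι hdim).1 hclosed _
    (KZ.QuasiProj.flf_of_invertible (InvX.isInvertible_structureModule (X := X)))
  have htop : ∀ G : X.Modules, Coh.IsCoh G → Function.Bijective (Canon.dualityMap k X 2 ω t G) := by
    intro G hG
    refine ⟨fun φ ψ h => ?_, fun ψ => ?_⟩
    · obtain ⟨χ, -, hu⟩ := hdual G hG (Canon.dualityMap k X 2 ω t G φ)
      exact (hu φ fun x => rfl).trans (hu ψ fun x => LinearMap.congr_fun h x).symm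
    · obtain ⟨φ, hφ, -⟩ := hdual G hG ψ
      exact ⟨φ, LinearMap.ext fun x => (hφ x).symm⟩
  have key : ∀ {L L' : X.Modules}, PicF.IsInvertible L → PicF.IsInvertible L' →
      (CohB1.tensorMod L L' ≅ Coh.structureModule X) →
      Curv2.euler k X L = Curv2.euler k X (CohB1.tensorMod ω L') := by
    intro L L' hL hL' u
    have hd : ∀ q ≤ 2, Module.finrank k (Coh.HH X L q) = Module.finrank k (Coh.HH X (CohB1.tensorMod ω L') (2 - q)) := by
      intro q hq'
      obtain ⟨e⟩ := (ExtShX.duality_of_vanishing ι hι hω 2 t htop q₀ (fun q hq' j hj =>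
        QCoh.subsingleton_HH_of_iso ((H23.PicMul.comm _ _).some ≪≫ (H23.PicMul.unit _).some) j (hq q hq' j hj)) L
          (AmpleVan.isCoh_invertible hL) (2 - q)).1 (Nat.sub_le 2 q)
      obtain ⟨e'⟩ := PnDual.nonempty_ext_linearEquiv_HH (A := k) (H23.PullPush.isFinLocFree_of_isInvertible hL) ω (2 - q)
      obtain ⟨c⟩ := WedgeX.nonempty_hom_invertible hL u ω
      rw [show 2 - (2 - q) = q by omega] at e
      have h := (e.symm ≪≫ₗ e' ≪≫ₗ S2926.hhIso k c (2 - q)).finrank_eq
      rwa [Subspace.dual_finrank_eq] at h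
    have h3 : ∀ {M : X.Modules}, Coh.IsQCoh M → Curv2.euler k X M =
        (Module.finrank k (Coh.HH X M 0) : ℤ) - Module.finrank k (Coh.HH X M 1) + Module.finrank k (Coh.HH X M 2) := by
      intro M hM
      rw [CurveCohLib.euler_eq_sum (k := k) (N := 3) fun i hi =>
        Snapper.subsingleton_HH_of_dim_le hdim.le hM (by omega)]
      simp [Finset.sum_range_succ, sub_eq_add_neg]
    rw [h3 (AmpleVan.isCoh_invertible hL).1,
      h3 (AmpleVan.isCoh_invertible (InvX.isInvertible_tensorMod hωi hL')).1, hd 0 (by norm_num), hd 1 (by norm_num),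
      hd 2 le_rfl]
    show (Module.finrank k (Coh.HH X _ 2) : ℤ) - Module.finrank k (Coh.HH X _ 1) + Module.finrank k (Coh.HH X _ 0) = _
    ring
  obtain ⟨L', hL', ⟨u⟩⟩ := H23.PicInv.exists_inverse hL
  have hO := InvX.isInvertible_structureModule (X := X)
  have uO : CohB1.tensorMod (Coh.structureModule X) (Coh.structureModule X) ≅ Coh.structureModule X :=
    (IntSym.CurveSurface.nonempty_unit_tensor (Coh.structureModule X)).some
  have h1 := key hL hL' u
  have h2 := key hO hO uO
  obtain ⟨eW⟩ : Nonempty (CohB1.tensorMod ω (Coh.structureModule X) ≅ ω) := cl_eq_iff.1 (by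
    rw [cl_tensor, ← H23.PicMul.one_def, mul_one])
  rw [CurveCohLib.euler_congr (k := k) eW] at h2
  have h3 := euler_tensor k (L := ω) hL'
  have h4 := euler_tensor k (L := L) hL'
  rw [CurveCohLib.euler_congr (k := k) u] at h4
  have h5 : pair k ω L' = - pair k ω L := by
    rw [pair_comm k hωi hL', pair_inverse k hdim.le hL hL' u hωi, pair_comm k hL hωi]
  have h6 : pair k L L' = - pair k L L := by
    rw [pair_comm k hL hL', pair_inverse k hdim.le hL hL' u hL]
  have h7 := pair_comm k hL hωi
  linarith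

end Groth.Agent.SurfRR
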