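import Groth.Agent.SurfRR.Connected
import Groth.Agent.DepthTwist.Main

/-!
# Trivial restrictions to numerically connected divisors
-/

set_option autoImplicit false
set_option linter.style.haveILetI false
set_option linter.unusedSectionVars false
set_option backward.isDefEq.respectTransparency false
set_option backward.isDefEq.respectTransparency.types false
set_option maxHeartbeats 1000000

universe u

open CategoryTheory CategoryTheory.Limits AlgebraicGeometry TopologicalSpace
open scoped Groth.Agent.H23.PicMul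

noncomputable section

namespace Groth.Agent.SurfRR

open Groth.Agent.IntSym (sym)

theorem smul_gen_eq_zero_iff {R M Q : Type*} [CommRing R] [AddCommGroup M] [Module R M] [AddCommGroup Q] [Module R Q]
    {e : M} (he : Submodule.span R {e} = ⊤) (h : M →ₗ[R] Q) (r : R) (hh : Function.Surjective h) :
    h (r • e) = 0 ↔ ∀ q, r • q = (0 : Q) := by
  refine ⟨fun h0 q => ?_, fun h0 => by rw [map_smul]; exact h0 _⟩
  obtain ⟨m, rfl⟩ := hh q
  obtain ⟨a, rfl⟩ := Submodule.mem_span_singleton.1 (he.ge (Submodule.mem_top : m ∈ ⊤))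
  rw [map_smul, smul_comm, ← map_smul, h0, smul_zero]

/-- Surjections out of a cyclic module onto isomorphic modules have the same kernel. -/
theorem ker_eq_ker {R M N P : Type*} [CommRing R] [AddCommGroup M] [Module R M] [AddCommGroup N] [Module R N]
    [AddCommGroup P] [Module R P] {e : M} (he : Submodule.span R {e} = ⊤) (f : M →ₗ[R] N) (g : M →ₗ[R] P)
    (hf : Function.Surjective f) (hg : Function.Surjective g) (ε : N ≃ₗ[R] P) : LinearMap.ker f = LinearMap.ker g := by
  ext m
  obtain ⟨r, rfl⟩ := Submodule.mem_span_singleton.1 (he.ge (Submodule.mem_top : m ∈ ⊤))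
  rw [LinearMap.mem_ker, LinearMap.mem_ker, smul_gen_eq_zero_iff he f r hf, smul_gen_eq_zero_iff he g r hg]
  exact ⟨fun h p => by
      obtain ⟨n, rfl⟩ := ε.surjective p
      rw [← map_smul, h, map_zero],
    fun h n => ε.injective (by rw [map_smul, h, map_zero])⟩

/-- Nakayama for cyclic modules: a map is onto if its composite to a nonzero quotient is. -/
theorem surjective_of_comp {R M N P : Type*} [CommRing R] [IsLocalRing R] [AddCommGroup M] [Module R M]
    [AddCommGroup N] [Module R N] [AddCommGroup P] [Module R P] [Nontrivial P]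
    {e : N} (he : Submodule.span R {e} = ⊤) (σ : M →ₗ[R] N) (q : N →ₗ[R] P) (hq : Function.Surjective (q.comp σ)) :
    Function.Surjective σ := by
  obtain ⟨m, hm⟩ := hq (q e)
  obtain ⟨a, ha⟩ := Submodule.mem_span_singleton.1 (he.ge (Submodule.mem_top : σ m ∈ ⊤))
  have hu : IsUnit a := by
    by_contra hu
    have h1 : IsUnit (1 - a) := IsLocalRing.isUnit_one_sub_self_of_mem_nonunits a hu
    have h2 : (1 - a) • q e = 0 := by
      rw [sub_smul, one_smul, ← map_smul, ha, sub_eq_zero]
      exact hm.symm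
    have h3 : q e = 0 := h1.smul_eq_zero.1 h2
    obtain ⟨p, hp⟩ := exists_ne (0 : P)
    obtain ⟨m', hm'⟩ := hq p
    obtain ⟨b, hb⟩ := Submodule.mem_span_singleton.1 (he.ge (Submodule.mem_top : σ m' ∈ ⊤))
    exact hp (hm'.symm.trans (by rw [LinearMap.comp_apply, ← hb, map_smul, h3, smul_zero]))
  intro n
  obtain ⟨b, rfl⟩ := Submodule.mem_span_singleton.1 (he.ge (Submodule.mem_top : n ∈ ⊤))
  obtain ⟨u, rfl⟩ := hu
  exact ⟨(b * ((u⁻¹ : Rˣ) : R)) • m, by rw [map_smul, ← ha, smul_smul, mul_assoc, Units.inv_mul, mul_one]⟩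

variable (k : Type u) [Field k] [IsAlgClosed k] {X : Scheme.{u}} [X.Over (Spec (CommRingCat.of k))]
  [IsProper (X ↘ Spec (CommRingCat.of k))]

include k in
/-- Nonzero maps to the structure sheaf of an integral curve are epimorphisms. -/
theorem epi_of_ne_zero {C : X.IdealSheafData} (hC : IsIntegral C.subscheme)
    (hC1 : topologicalKrullDim (C.support : Set X) = 1)
    (σ : Coh.structureModule X ⟶ ClSub.quotMod C) (hσ : σ ≠ 0) : Epi σ := by
  haveI := hC
  haveI := CurvePoint.epi_toSubscheme C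
  have h1 : Module.finrank k (Coh.HH X (ClSub.quotMod C) 0) = 1 :=
    (h0_curve_le k hC hC1 InvX.isInvertible_structureModule
      (IntSym.sym_structure_head k (List.forall_mem_nil _) _).le).1
  rw [← finrank_hom] at h1
  obtain ⟨a, ha⟩ := (finrank_eq_one_iff_of_nonzero' σ hσ).1 h1 (ClSub.toSubscheme C)
  refine Preadditive.epi_of_cancel_zero σ fun g hg => ?_
  rw [← cancel_epi (ClSub.toSubscheme C), comp_zero, ← ha, Linear.smul_comp, hg, smul_zero]

variable [IsIntegral X] [Smooth (X ↘ Spec (CommRingCat.of k))]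
  (hdim : topologicalKrullDim X = ((2 : ℕ) : WithBot ℕ∞))

include hdim in
theorem h0_le_one {Z : X.IdealSheafData} (hZ : BlowUp.IsEffCartierIdeal Z) (hZ0 : Z ≠ ⊤)
    (hnc : ∀ Z₁ Z₂ : X.IdealSheafData, FGA.IsEffCartier Z₁ → FGA.IsEffCartier Z₂ → Z₁ ≠ ⊤ → Z₂ ≠ ⊤ →
      Z = Z₁ * Z₂ → 0 < FGA.intNum k X 2 ![(ClSub.idealMod Z₁), (ClSub.idealMod Z₂)] (Coh.structureModule X))
    {L : X.Modules} (hL : PicF.IsInvertible L)
    (hdeg : ∀ C : X.IdealSheafData, IsIntegral C.subscheme → topologicalKrullDim (C.support : Set X) = 1 → Z ≤ C →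
      sym k [L] (ClSub.quotMod C) ≤ 0) :
    Module.finrank k (Coh.HH X (CohB1.tensorMod (ClSub.quotMod Z) L) 0) ≤ 1 := by
  obtain ⟨C, hC, hC1, hle⟩ := exists_curve_of_ne_top k hdim hZ hZ0
  have hCc := isEffCartier_curve k hdim hC hC1 (regular_of_smooth k)
  obtain ⟨R, hR, e⟩ := exists_quot hZ hCc hle
  exact (restrict_injective k hdim hnc hL hdeg hCc hR (curve_ne_top hdim hC) e hle).1.trans
    (h0_curve_le k hC hC1 hL (hdeg C hC hC1 hle)).2

include hdim in
theorem iso_of_h0_eq_one {Z : X.IdealSheafData} (hZ : BlowUp.IsEffCartierIdeal Z) (hZ0 : Z ≠ ⊤)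
    (hnc : ∀ Z₁ Z₂ : X.IdealSheafData, FGA.IsEffCartier Z₁ → FGA.IsEffCartier Z₂ → Z₁ ≠ ⊤ → Z₂ ≠ ⊤ →
      Z = Z₁ * Z₂ → 0 < FGA.intNum k X 2 ![(ClSub.idealMod Z₁), (ClSub.idealMod Z₂)] (Coh.structureModule X))
    {L : X.Modules} (hL : PicF.IsInvertible L)
    (hdeg : ∀ C : X.IdealSheafData, IsIntegral C.subscheme → topologicalKrullDim (C.support : Set X) = 1 → Z ≤ C →
      sym k [L] (ClSub.quotMod C) ≤ 0)
    (h1 : Module.finrank k (Coh.HH X (CohB1.tensorMod (ClSub.quotMod Z) L) 0) = 1) :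
    Nonempty (CohB1.tensorMod (ClSub.quotMod Z) L ≅ ClSub.quotMod Z) := by
  haveI := CurveCohLib.isNoetherian_of_proper (k := k) (X := X)
  haveI := AmpleVan.isEquivalence_tw hL
  haveI : Nontrivial (Coh.structureModule X ⟶ (AmpleVan.tw L).obj (ClSub.quotMod Z)) :=
    Module.nontrivial_of_finrank_pos (R := k)
      (((finrank_hom k ((AmpleVan.tw L).obj (ClSub.quotMod Z))).trans h1).symm ▸ zero_lt_one)
  obtain ⟨σ, hσ⟩ := exists_ne (0 : Coh.structureModule X ⟶ (AmpleVan.tw L).obj (ClSub.quotMod Z))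
  haveI := CurvePoint.epi_toSubscheme Z
  let Φ : ∀ x : X, X.Modules ⥤ ModuleCat.{u} (X.presheaf.stalk x) := fun x => DerSch.stalkFunctor X x
  have heq : ∀ x : X, Nonempty (((Φ x).obj ((AmpleVan.tw L).obj (ClSub.quotMod Z)) : Type u) ≃ₗ[X.presheaf.stalk x]
      ((Φ x).obj (ClSub.quotMod Z) : Type u)) := fun x => by
    obtain ⟨e⟩ := H23.InvStalk.exists_stalk_equiv hL x
    exact ⟨(KFlatLib.stalkTensorIso x (ClSub.quotMod Z) L).toLinearEquiv.symm.trans
      ((TensorProduct.congr (LinearEquiv.refl _ _) e).trans (TensorProduct.rid _ _))⟩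
  have htoS : ∀ x : X, Function.Surjective ((Φ x).map (ClSub.toSubscheme Z)) := fun x =>
    (ModuleCat.epi_iff_surjective _).1 inferInstance
  have hsurj : ∀ x : X, Function.Surjective ((Φ x).map σ) := fun x => by
    obtain ⟨ε⟩ := heq x
    by_cases hx : x ∈ Z.support
    · obtain ⟨C, hC, hC1, hle, hxC⟩ := exists_curve_le k hdim hZ hx
      have hCc := isEffCartier_curve k hdim hC hC1 (regular_of_smooth k)
      obtain ⟨R, hR, e⟩ := exists_quot hZ hCc hle
      have hne : σ ≫ rmap hle L ≠ 0 := fun h0 =>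
        hσ ((restrict_injective k hdim hnc hL hdeg hCc hR (curve_ne_top hdim hC) e hle).2 σ h0)
      rcases h0_curve k hC hC1 hL (hdeg C hC hC1 hle) with h0 | ⟨-, ⟨eC⟩⟩
      · exact absurd (hom_eq_zero_of_h0 k (AmpleVan.isCoh_tensor (ParShLib.isCoh_quotMod C)
          (AmpleVan.isCoh_invertible hL)) h0 (σ ≫ rmap hle L)) hne
      haveI : Epi ((σ ≫ rmap hle L) ≫ eC.hom) := epi_of_ne_zero k hC hC1 _ fun h0 => hne (by
        rw [← cancel_mono eC.hom, h0, zero_comp])
      haveI : Epi (σ ≫ rmap hle L) := by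
        have : σ ≫ rmap hle L = ((σ ≫ rmap hle L) ≫ eC.hom) ≫ eC.inv := by
          rw [Category.assoc, Iso.hom_inv_id, Category.comp_id]
        rw [this]
        exact epi_comp _ _
      haveI : Nontrivial ((Φ x).obj ((AmpleVan.tw L).obj (ClSub.quotMod C))) := by
        have hxC' : x ∈ CohB1.support (ClSub.quotMod C) := by rw [support_quotMod]; exact hxC
        haveI : Nontrivial ((Φ x).obj (ClSub.quotMod C)) :=
          not_subsingleton_iff_nontrivial.1 hxC'
        exact ((Φ x).mapIso eC).toLinearEquiv.toEquiv.nontrivial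
      have hgen : Submodule.span (X.presheaf.stalk x) {ε.symm ((Φ x).map (ClSub.toSubscheme Z) (H23.UnitSec.one x))} = ⊤ := by
        have h1 := congrArg (Submodule.map (ε.symm.toLinearMap.comp ((Φ x).map (ClSub.toSubscheme Z)).hom))
          (H23.UnitSec.span_one x)
        rw [Submodule.map_span, Submodule.map_top, Set.image_singleton, LinearMap.range_eq_top.2
          (show Function.Surjective (ε.symm.toLinearMap.comp ((Φ x).map (ClSub.toSubscheme Z)).hom) from
            ε.symm.surjective.comp (htoS x))] at h1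
        exact h1
      refine surjective_of_comp hgen ((Φ x).map σ).hom ((Φ x).map (rmap hle L)).hom ?_
      have hs := (ModuleCat.epi_iff_surjective ((Φ x).map (σ ≫ rmap hle L))).1 inferInstance
      rw [Functor.map_comp] at hs
      exact hs
    · haveI : Subsingleton ((Φ x).obj (ClSub.quotMod Z)) := ParShLib.subsingleton_stalk_quotMod Z hx
      haveI := ε.toEquiv.subsingleton
      exact fun y => ⟨0, Subsingleton.elim _ _⟩
  have hker : ∀ x : X, LinearMap.ker ((Φ x).map σ).hom = LinearMap.ker ((Φ x).map (ClSub.toSubscheme Z)).hom :=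
    fun x => ker_eq_ker (H23.UnitSec.span_one x) _ _ (hsurj x) (htoS x) (heq x).some
  have hzero : ClSub.idealModι Z ≫ σ = 0 := DepthTwist.hom_ext_stalk _ _ fun x => by
    rw [Functor.map_comp, Functor.map_zero]
    ext v
    have hv : ((Φ x).map (ClSub.idealModι Z)).hom v ∈ LinearMap.ker ((Φ x).map (ClSub.toSubscheme Z)).hom := by
      rw [LinearMap.mem_ker]
      change ((Φ x).map (ClSub.idealModι Z) ≫ (Φ x).map (ClSub.toSubscheme Z)).hom v = 0
      rw [← Functor.map_comp, ClSub.idealModι, kernel.condition, Functor.map_zero]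
      rfl
    rw [← hker] at hv
    exact hv
  let ψ : ClSub.quotMod Z ⟶ (AmpleVan.tw L).obj (ClSub.quotMod Z) :=
    (IntSym.shortExact_toSubscheme Z).exact.desc σ hzero
  have hψ : ClSub.toSubscheme Z ≫ ψ = σ := (IntSym.shortExact_toSubscheme Z).exact.g_desc σ hzero
  have hbij : ∀ x : X, Function.Bijective ((Φ x).map ψ) := fun x => by
    have hc : ∀ y, (Φ x).map σ y = (Φ x).map ψ ((Φ x).map (ClSub.toSubscheme Z) y) := fun y => by
      rw [← hψ, Functor.map_comp, ConcreteCategory.comp_apply]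
    refine ⟨(injective_iff_map_eq_zero ((Φ x).map ψ).hom).2 fun y hy => ?_, fun z => ?_⟩
    · obtain ⟨w, rfl⟩ := htoS x y
      have hw : w ∈ LinearMap.ker ((Φ x).map σ).hom := (hc w).trans hy
      rw [hker] at hw
      exact hw
    · obtain ⟨w, rfl⟩ := hsurj x z
      exact ⟨_, (hc w).symm⟩
  haveI : Mono ψ := by
    refine Preadditive.mono_of_isZero_kernel ψ (CurveCohLib.isZero_of_subsingleton_stalks fun x => ?_)
    haveI : Mono ((Φ x).map ψ) := (ModuleCat.mono_iff_injective _).2 (hbij x).1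
    exact ModuleCat.subsingleton_of_isZero (IsZero.of_iso (isZero_kernel_of_mono ((Φ x).map ψ)) (PreservesKernel.iso (Φ x) ψ))
  haveI : Epi ψ := by
    refine Preadditive.epi_of_isZero_cokernel ψ (CurveCohLib.isZero_of_subsingleton_stalks fun x => ?_)
    haveI : Epi ((Φ x).map ψ) := (ModuleCat.epi_iff_surjective _).2 (hbij x).2
    exact ModuleCat.subsingleton_of_isZero (IsZero.of_iso (isZero_cokernel_of_epi ((Φ x).map ψ)) (PreservesCokernel.iso (Φ x) ψ))
  haveI : IsIso ψ := isIso_of_mono_of_epi ψ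
  exact ⟨(asIso ψ).symm⟩

end Groth.Agent.SurfRR
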