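import Groth.Agent.SurfRR.Curve

/-!
# Nef classes on surfaces
-/

set_option autoImplicit false
set_option linter.style.haveILetI false
set_option linter.unusedSectionVars false
set_option backward.isDefEq.respectTransparency false
set_option backward.isDefEq.respectTransparency.types false
set_option maxHeartbeats 800000

universe u

open CategoryTheory CategoryTheory.Limits AlgebraicGeometry TopologicalSpace

noncomputable section

open Groth.Agent.IntSym
open scoped Groth.Agent.H23.PicMul

namespace Groth.Agent.SurfRR
open BigMono (NefC)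

variable (k : Type u) [Field k] {X : Scheme.{u}} [X.Over (Spec (CommRingCat.of k))]
  [IsProper (X ↘ Spec (CommRingCat.of k))]

/-- Nefness from degrees on integral curves given by ideals. -/
theorem nef_of_curves {N : X.Modules} (hN : PicF.IsInvertible N)
    (h : ∀ C : X.IdealSheafData, IsIntegral C.subscheme → topologicalKrullDim (C.support : Set X) = 1 →
      0 ≤ Curv2.euler k X (CohB1.tensorMod (ClSub.quotMod C) N) - Curv2.euler k X (ClSub.quotMod C)) :
    NefC k N := by
  intro Z i _ _ hZ
  obtain ⟨e⟩ := CurveSurface.nonempty_quotMod_iso k (S := X) i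
  obtain ⟨hI, -⟩ := H23.P1Graph.image_integral i
  have hd : topologicalKrullDim ((i.ker).support : Set X) = 1 := by
    rw [← IntSym.dim_eq_of_range i (show Set.range i = _ from ?_), hZ]
    rw [Scheme.Hom.support_ker, i.isClosedEmbedding.isClosed_range.closure_eq]
  rw [sym_iso k (List.forall_mem_singleton.2 hN) e]
  exact h i.ker hI hd

variable [IsIntegral X] (hdim : topologicalKrullDim X = ((2 : ℕ) : WithBot ℕ∞))

include hdim in
/-- Nef classes have non-negative square. -/
theorem pair_self_nonneg_of_nef {N A : X.Modules} (hN : PicF.IsInvertible N) (hnef : NefC k N)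
    (hA : CohB1.IsAmple A) : 0 ≤ pair k N N :=
  BigMono.nonneg_mixed k 2 X hdim A hA N hN hnef [N, N]
    (fun M hM => Or.inl (by simpa using hM)) rfl

variable [Smooth (X ↘ Spec (CommRingCat.of k))]

include hdim in
/-- Square zero orthogonal to a positive class is numerically zero. -/
theorem pair_eq_zero_pos {H L M : X.Modules} (hH : CohB1.IsAmple H) (hL : PicF.IsInvertible L)
    (hM : PicF.IsInvertible M) (hpos : 0 < pair k L L) (horth : pair k L M = 0) (hMM : pair k M M = 0)
    {P : X.Modules} (hP : PicF.IsInvertible P) : pair k M P = 0 := by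
  have hproj := exists_proj_smooth k hdim
  refine pair_eq_zero k hdim hproj hH hM ?_ hMM hP
  obtain ⟨Q, hQ, hQN⟩ := exists_comb k hdim.le hH.1 hL (pair k L L) (-pair k L H)
  have hLQ : pair k L Q = 0 := by
    rw [pair_comm k hL hQ, hQN L hL, pair_comm k hH.1 hL]; ring
  have hQM : pair k Q M = pair k L L * pair k M H := by
    rw [hQN M hM, horth, pair_comm k hH.1 hM]; ring
  suffices pair k Q M = 0 from (mul_eq_zero.1 (hQM ▸ this)).resolve_left hpos.ne'
  have key : ∀ t : ℤ, 2 * t * pair k Q M + pair k Q Q ≤ 0 := fun t => by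
    obtain ⟨R, hR, hRN⟩ := exists_comb k hdim.le hM hQ t 1
    have h1 := index_pos k hdim hproj hH hL hR hpos (by
      rw [pair_comm k hL hR, hRN L hL, pair_comm k hM hL, horth, pair_comm k hQ hL, hLQ]; ring)
    rw [pair_comb_self k hM hQ hR hRN, hMM, pair_comm k hM hQ] at h1
    linarith
  by_contra hne
  have h1 := key (pair k Q M * ((pair k Q Q).natAbs + 1))
  have h2 : (1 : ℤ) ≤ pair k Q M * pair k Q M := mul_self_pos.2 hne
  have h3 := Int.le_natAbs (a := -pair k Q Q)
  rw [Int.natAbs_neg] at h3
  have h4 : ((pair k Q Q).natAbs + 1 : ℤ) * 1 ≤ ((pair k Q Q).natAbs + 1 : ℤ) * (pair k Q M * pair k Q M) :=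
    mul_le_mul_of_nonneg_left h2 (by positivity)
  linarith

end Groth.Agent.SurfRR
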