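import Groth.Agent.SurfRR.ConnectedIso
import Groth.Agent.NefCurve.Gen

/-!
# Artin's criterion for the vanishing of `H¹` on the sub-divisors of a divisor
-/

set_option autoImplicit false
set_option linter.style.haveILetI false
set_option linter.unusedSectionVars false
set_option backward.isDefEq.respectTransparency false
set_option backward.isDefEq.respectTransparency.types false
set_option maxHeartbeats 1000000

universe u

open CategoryTheory CategoryTheory.Limits AlgebraicGeometry TopologicalSpace
open scoped Groth.Agent.H23.PicMul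

noncomputable section

namespace Groth.Agent.SurfRR

open Groth.Agent.IntSym (sym)

variable (k : Type u) [Field k] [IsAlgClosed k]

theorem subsingleton_mid {Y : Scheme.{u}} [Y.Over (Spec (CommRingCat.of k))] {S : ShortComplex Y.Modules}
    (hS : S.ShortExact) (n : ℕ) (h1 : Subsingleton (Coh.HH Y S.X₁ n)) (h3 : Subsingleton (Coh.HH Y S.X₃ n)) :
    Subsingleton (Coh.HH Y S.X₂ n) := by
  refine subsingleton_of_forall_eq 0 fun y => ?_
  obtain ⟨x, hx⟩ := (CurveCohLib.ker_mapLin_g k hS n).le (LinearMap.mem_ker.2 (Subsingleton.elim _ 0) : y ∈ _)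
  rw [← hx, Subsingleton.elim x 0, map_zero]

/-- On a curve with `H¹(O) = 0` an invertible module of degree at least `-1` has no `H¹`. -/
theorem subsingleton_h1_deg {Y : Scheme.{u}} [Y.Over (Spec (CommRingCat.of k))]
    [IsProper (Y ↘ Spec (CommRingCat.of k))] [IsIntegral Y] (hdim : topologicalKrullDim Y ≤ 1)
    (h1 : Subsingleton (Coh.HH Y (Coh.structureModule Y) 1)) {M : Y.Modules} (hM : PicF.IsInvertible M)
    (hd : -1 ≤ Curv2.deg k Y M 1) : Subsingleton (Coh.HH Y M 1) := by
  haveI := CurveCohLib.isNoetherian_of_proper (k := k) (X := Y)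
  have hMc := AmpleVan.isCoh_invertible hM
  haveI := CurveCohLib.finite_HH (k := k) hMc 1
  have hO : Curv2.euler k Y (Coh.structureModule Y) = 1 := by
    rw [NefCurve.euler_eq k hdim QCoh.isQCoh_structureModule, finrank_h0_structure k Y,
      Module.finrank_zero_of_subsingleton (M := Coh.HH Y (Coh.structureModule Y) 1)]
    rfl
  have hdeg : Curv2.deg k Y M 1 = Curv2.euler k Y M - 1 := by
    unfold Curv2.deg
    rw [hO]
    push_cast
    ring
  have hχ := NefCurve.euler_eq k hdim hMc.1
  rcases Nat.eq_zero_or_pos (Module.finrank k (Coh.HH Y M 0)) with h0 | h0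
  · exact Module.finrank_zero_iff.1 (show Module.finrank k (Coh.HH Y M 1) = 0 by omega)
  obtain ⟨τ, hτ⟩ := VolLib.exists_section_of_pos (k := k) h0
  let t : Coh.structureModule Y ⟶ M := InvX.ofSect τ
  have ht : t ≠ 0 := fun h => hτ (by
    rw [← InvX.one_ofSect τ]
    exact congrArg InvX.one h)
  haveI : Mono t := InvEnd.mono_of_ne_zero InvX.isInvertible_structureModule hM t ht
  have hQ : Coh.IsCoh (cokernel t) := QCoh.isCoh_cokernel QCoh.isCoh_structureModule'.1 hMc t
  have hdimQ : topologicalKrullDim (CohB1.support (cokernel t)) ≤ 0 := by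
    refine CurveDeg.topologicalKrullDim_le_zero_of_ne_univ hdim (QCoh.isClosed_support_of_isFT hQ.1 hQ.2)
      fun hu => ?_
    obtain ⟨W, ⟨⟨w, hw⟩⟩, hW⟩ := CurveDeg.exists_open_surjective InvX.isInvertible_structureModule hM t ht
    obtain ⟨_, ⟨V, hV, rfl⟩, hwV, hVW⟩ :=
      Y.isBasis_affineOpens.exists_subset_of_mem_open hw W.isOpen
    refine absurd (hu.symm.subset (Set.mem_univ w)) ((QCoh.notMem_support_iff hQ.1 hV hwV).2 fun m => ?_)
    obtain ⟨l, rfl⟩ := QCoh.app_surjective_of_epi hMc.1 hQ.1 (cokernel.π t) hV m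
    obtain ⟨n, rfl⟩ := hW V hVW l
    refine ⟨1, by rw [Y.basicOpen_of_isUnit isUnit_one]; exact hwV, ?_⟩
    rw [one_smul]
    exact congrArg (fun ψ => Scheme.Modules.Hom.app ψ V n) (cokernel.condition t)
  haveI := (Euler.good_of_dim_le_zero k hQ hdimQ).1 1 le_rfl
  let S : ShortComplex Y.Modules := ShortComplex.mk t (cokernel.π t) (cokernel.condition t)
  have hS : S.ShortExact := { exact := ShortComplex.exact_of_g_is_cokernel _ (cokernelIsCokernel t) }
  exact subsingleton_mid k hS 1 h1 ‹_›

variable {X : Scheme.{u}} [X.Over (Spec (CommRingCat.of k))]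
  [IsProper (X ↘ Spec (CommRingCat.of k))] [IsIntegral X]

/-- Degree at least `-1` on a genus zero curve kills `H¹`, computed on the ambient scheme. -/
theorem subsingleton_h1_quot {C : X.IdealSheafData} (hC : IsIntegral C.subscheme)
    (hC1 : topologicalKrullDim (C.support : Set X) = 1)
    (hg : Curv2.euler k X (ClSub.quotMod C) = 1) {L : X.Modules} (hL : PicF.IsInvertible L)
    (hd : -1 ≤ sym k [L] (ClSub.quotMod C)) :
    Subsingleton (Coh.HH X (CohB1.tensorMod (ClSub.quotMod C) L) 1) := by
  haveI := hC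
  haveI := CurveCohLib.isNoetherian_of_proper (k := k) (X := X)
  letI : C.subscheme.Over (Spec (CommRingCat.of k)) := ⟨C.subschemeι ≫ (X ↘ Spec (CommRingCat.of k))⟩
  haveI : IsProper (C.subscheme ↘ Spec (CommRingCat.of k)) :=
    inferInstanceAs (IsProper (C.subschemeι ≫ (X ↘ Spec (CommRingCat.of k))))
  set M := (Scheme.Modules.pullback C.subschemeι).obj L
  have hM : PicF.IsInvertible M := PicClLib.isInvertible_pullback C.subschemeι hL
  obtain ⟨p⟩ := IntNum.push_tensor C.subschemeι (Coh.structureModule C.subscheme) L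
  have e : CohB1.tensorMod (ClSub.quotMod C) L ≅ (Coh.push C.subschemeι).obj M :=
    p.symm ≪≫ (Coh.push C.subschemeι).mapIso (CurveTensor.structureTensorIso M)
  have hd1 : topologicalKrullDim C.subscheme = 1 := by
    rw [IntSym.dim_eq_of_range C.subschemeι (Scheme.IdealSheafData.range_subschemeι C), hC1]
  have hsd : sym k [L] (ClSub.quotMod C) = Curv2.deg k C.subscheme M 1 := AffCompl.dg_eq_deg k C.subschemeι hL
  haveI := subsingleton_h1_deg k hd1.le ((euler_curve k hC hC1).2.1 hg) hM (hsd ▸ hd)
  obtain ⟨e'⟩ := QCoh.HH_push_linear C.subschemeι (Coh.toGlobal (X ↘ Spec (CommRingCat.of k)))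
    (Coh.toGlobal (C.subscheme ↘ Spec (CommRingCat.of k))) (fun a => rfl)
    (QCoh.isQCoh_pullback C.subschemeι (AmpleVan.isCoh_invertible hL).1) 1
  haveI := e'.toEquiv.subsingleton_congr.1 this
  exact (S2926.hhIso k e 1).toEquiv.subsingleton

variable (hdim : topologicalKrullDim X = ((2 : ℕ) : WithBot ℕ∞))

omit [IsAlgClosed k] in
include hdim in
/-- The Euler characteristic of an effective divisor. -/
theorem euler_quotMod {D : X.IdealSheafData} (hD : BlowUp.IsEffCartierIdeal D) :
    Curv2.euler k X (ClSub.quotMod D) = (Module.finrank k (Coh.HH X (ClSub.quotMod D) 0) : ℤ) -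
      Module.finrank k (Coh.HH X (ClSub.quotMod D) 1) := by
  letI : D.subscheme.Over (Spec (CommRingCat.of k)) := ⟨D.subschemeι ≫ (X ↘ Spec (CommRingCat.of k))⟩
  haveI : IsProper (D.subscheme ↘ Spec (CommRingCat.of k)) :=
    inferInstanceAs (IsProper (D.subschemeι ≫ (X ↘ Spec (CommRingCat.of k))))
  have hd : topologicalKrullDim D.subscheme ≤ 1 := by
    have h := dim_quotMod_le k hdim hD
    rw [support_quotMod, Nat.cast_one] at h
    rwa [IntSym.dim_eq_of_range D.subschemeι (Scheme.IdealSheafData.range_subschemeι D)]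
  have he : ∀ i : ℕ, Module.finrank k (Coh.HH D.subscheme (Coh.structureModule D.subscheme) i) =
      Module.finrank k (Coh.HH X (ClSub.quotMod D) i) := fun i => by
    obtain ⟨e'⟩ := QCoh.HH_push_linear D.subschemeι (Coh.toGlobal (X ↘ Spec (CommRingCat.of k)))
      (Coh.toGlobal (D.subscheme ↘ Spec (CommRingCat.of k))) (fun a => rfl)
      (QCoh.isQCoh_structureModule (X := D.subscheme)) i
    exact e'.finrank_eq
  refine (IntNum.euler_push k D.subschemeι rfl QCoh.isQCoh_structureModule).trans ?_
  rw [NefCurve.euler_eq k hd QCoh.isQCoh_structureModule, he, he]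

omit [IsAlgClosed k] in
theorem h0_quotMod_pos {D : X.IdealSheafData} (hD0 : D ≠ ⊤) :
    0 < Module.finrank k (Coh.HH X (ClSub.quotMod D) 0) := by
  haveI := CurveCohLib.isNoetherian_of_proper (k := k) (X := X)
  refine Nat.pos_of_ne_zero fun h0 => hD0 ?_
  haveI := CurvePoint.epi_toSubscheme D
  have hz : IsZero (ClSub.quotMod D) := IsZero.of_epi_eq_zero (ClSub.toSubscheme D)
    (hom_eq_zero_of_h0 k (ParShLib.isCoh_quotMod D) h0 _)
  refine (Scheme.IdealSheafData.support_eq_bot_iff D).1 (TopologicalSpace.Closeds.ext ?_)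
  rw [← support_quotMod, Closeds.coe_bot, Set.eq_empty_iff_forall_notMem]
  intro x hx
  exact hx (ModuleCat.subsingleton_of_isZero ((DerSch.stalkFunctor X x).map_isZero hz))

variable [Smooth (X ↘ Spec (CommRingCat.of k))]

include k hdim in
/-- Artin: if every sub-divisor has `χ ≥ 1`, none has `H¹`. -/
theorem subsingleton_h1_of_euler {Z : X.IdealSheafData}
    (h : ∀ Z' J : X.IdealSheafData, FGA.IsEffCartier Z' → FGA.IsEffCartier J → Z' ≠ ⊤ → Z = Z' * J →
      1 ≤ Curv2.euler k X (ClSub.quotMod Z'))
    (Z' J : X.IdealSheafData) (hZ' : BlowUp.IsEffCartierIdeal Z') (hJ : BlowUp.IsEffCartierIdeal J)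
    (hZ'0 : Z' ≠ ⊤) (e : Z = Z' * J) : Subsingleton (Coh.HH X (ClSub.quotMod Z') 1) := by
  obtain ⟨H, hH⟩ := exists_ample k hdim (regular_of_smooth (X := X) k)
  obtain ⟨W, hW⟩ := exists_canonical (k := k) (X := X) hdim
  have hWi := isInvertible_canonical (k := k) hdim (exists_proj_smooth k hdim) hW
  suffices ∀ n : ℕ, ∀ Z' J : X.IdealSheafData, BlowUp.IsEffCartierIdeal Z' → BlowUp.IsEffCartierIdeal J →
      Z' ≠ ⊤ → Z = Z' * J → (sym k [H] (ClSub.quotMod Z')).natAbs ≤ n →
      Subsingleton (Coh.HH X (ClSub.quotMod Z') 1) from this _ Z' J hZ' hJ hZ'0 e le_rfl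
  intro n
  induction n with
  | zero =>
    intro Z' J hZ' hJ hne e hn
    have := sym_pos_divisor k hdim hZ' hne hH
    omega
  | succ n ih =>
    intro Z' J hZ' hJ hne e hn
    have hIZ := (S8914.result Z').2 hZ'
    haveI := CurveCohLib.isNoetherian_of_proper (k := k) (X := X)
    have hgen : ∀ (C R : X.IdealSheafData), IsIntegral C.subscheme →
        topologicalKrullDim (C.support : Set X) = 1 → BlowUp.IsEffCartierIdeal C → BlowUp.IsEffCartierIdeal R →
        Z' = C * R → Curv2.euler k X (ClSub.quotMod C) = 1 := fun C R hC hC1 hCc hR h' =>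
      le_antisymm (euler_curve k hC hC1).1 (h C (R * J) hCc (ModPairLib.isEffCartier_mul hR hJ)
        (curve_ne_top hdim hC) (by rw [e, h', mul_assoc]))
    obtain ⟨C, R, hC, hC1, hCc, hR, rfl, hCR⟩ : ∃ C R : X.IdealSheafData, IsIntegral C.subscheme ∧
        topologicalKrullDim (C.support : Set X) = 1 ∧ BlowUp.IsEffCartierIdeal C ∧ BlowUp.IsEffCartierIdeal R ∧
        Z' = C * R ∧ pair k (ClSub.idealMod C) (ClSub.idealMod R) ≤ 1 := by
      by_contra hno
      push Not at hno
      have key : Z' ≤ Z' → pair k (ClSub.idealMod Z') W ≤ pair k (ClSub.idealMod Z') (ClSub.idealMod Z') := by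
        refine divisor_induction k hdim (P := fun S => Z' ≤ S →
          pair k (ClSub.idealMod S) W ≤ pair k (ClSub.idealMod S) (ClSub.idealMod Z')) (fun _ => ?_)
          (fun C S hC hC1 hCc hS ihS hle => ?_) hZ'
        · have htop : BlowUp.IsEffCartierIdeal (⊤ : X.IdealSheafData) := by
            obtain ⟨D, hD, he⟩ := exists_quot hZ' hZ' le_rfl
            rwa [ModPairLib.eq_of_mul_eq_mul hZ' ((mul_comm D Z').trans (he.symm.trans
              (Scheme.IdealSheafData.top_mul Z').symm))] at hD
          have h1 := pair_idealMod_mul k hdim htop htop hWi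
          have h2 := pair_idealMod_mul k hdim htop htop hIZ
          rw [Scheme.IdealSheafData.top_mul] at h1 h2
          omega
        · have hC' : Z' ≤ C := hle.trans (RelCurve.mul_le_left C S)
          obtain ⟨R, hR, hZR⟩ := exists_quot hZ' hCc hC'
          have h1 := hno C R hC hC1 hCc hR hZR
          have hIC := (S8914.result C).2 hCc
          have h2 : pair k (ClSub.idealMod C) (ClSub.idealMod Z') = pair k (ClSub.idealMod C) (ClSub.idealMod C) +
              pair k (ClSub.idealMod C) (ClSub.idealMod R) := by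
            rw [pair_comm k hIC hIZ, hZR, pair_idealMod_mul k hdim hCc hR hIC,
              pair_comm k ((S8914.result R).2 hR) hIC]
          have h3 := adjunction k hdim hCc hW
          rw [hgen C R hC hC1 hCc hR hZR] at h3
          have h4 := ihS (hle.trans (RelCurve.mul_le_right' C S))
          rw [pair_idealMod_mul k hdim hCc hS hWi, pair_idealMod_mul k hdim hCc hS hIZ]
          omega
      have h5 := adjunction k hdim hZ' hW
      have h6 := h Z' J hZ' hJ hne e
      have := key le_rfl
      omega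
    by_cases hR0 : R = ⊤
    · subst hR0
      have h1 := hgen C ⊤ hC hC1 hCc hR rfl
      rw [Scheme.IdealSheafData.mul_top]
      have e1 : CohB1.tensorMod (ClSub.quotMod C) (Coh.structureModule X) ≅ ClSub.quotMod C :=
        AmpleVan.twUnit.app (ClSub.quotMod C)
      haveI := subsingleton_h1_quot k hC hC1 h1 InvX.isInvertible_structureModule (by
        rw [IntSym.sym_structure_head k (List.forall_mem_nil _)]; norm_num)
      exact (S2926.hhIso k e1 1).toEquiv.symm.subsingleton
    have hn' : (sym k [H] (ClSub.quotMod R)).natAbs ≤ n := by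
      have h1 := sym_quotMod_mul k hdim hCc hR hH.1
      have h2 := sym_pos_divisor k hdim hCc (curve_ne_top hdim hC) hH
      have h3 := sym_pos_divisor k hdim hR hR0 hH
      omega
    have eZ : Z = R * (C * J) := by rw [e, mul_comm C R, mul_assoc]
    haveI hB := ih R (C * J) hR (ModPairLib.isEffCartier_mul hCc hJ) hR0 eZ hn'
    have hIR := (S8914.result R).2 hR
    obtain ⟨A, a, w, hS, ⟨eA⟩⟩ := exists_shortExact_mul R C hIR (RelCurve.mul_le_left R C)
    have eA' : A ≅ CohB1.tensorMod (ClSub.quotMod C) (ClSub.idealMod R) := eA ≪≫ (H23.PicMul.comm _ _).some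
    haveI := subsingleton_h1_quot k hC hC1 (hgen C R hC hC1 hCc hR rfl) hIR (by
      rw [pair_idealMod k hdim hCc hIR] at hCR; omega)
    haveI hA : Subsingleton (Coh.HH X A 1) := (S2926.hhIso k eA' 1).toEquiv.subsingleton
    rw [mul_comm C R]
    exact subsingleton_mid k hS 1 hA hB

end Groth.Agent.SurfRR
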