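import Groth.Agent.SurfRR.Seq
import Groth.Agent.SurfRR.Config
import Groth.Agent.ModPairLib.Quot
import Groth.Agent.RelCurve.Sum

/-!
# Decomposition of effective divisors into curves
-/

set_option autoImplicit false
set_option linter.style.haveILetI false
set_option linter.unusedSectionVars false
set_option backward.isDefEq.respectTransparency false
set_option backward.isDefEq.respectTransparency.types false
set_option maxHeartbeats 1000000

universe u

open CategoryTheory CategoryTheory.Limits AlgebraicGeometry TopologicalSpace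
open scoped Groth.Agent.H23.PicMul

noncomputable section

namespace Groth.Agent.SurfRR

variable {X : Scheme.{u}}

/-- A reduced closed subscheme inside the support lies in the subscheme. -/
theorem le_of_support_subset {R C : X.IdealSheafData} (hC : IsReduced C.subscheme)
    (h : (C.support : Set X) ⊆ (R.support : Set X)) : R ≤ C := by
  haveI := hC
  obtain ⟨g, hg⟩ := H23.RedSub.exists_lift_closed C.subschemeι R.subschemeι (by
    rw [Scheme.IdealSheafData.range_subschemeι, Scheme.IdealSheafData.range_subschemeι]; exact h)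
  rw [← Scheme.IdealSheafData.ker_subschemeι C, ← hg]
  conv_lhs => rw [← Scheme.IdealSheafData.ker_subschemeι R]
  exact Scheme.Hom.le_ker_comp _ _

theorem support_subset_of_le {R C : X.IdealSheafData} (h : R ≤ C) : (C.support : Set X) ⊆ (R.support : Set X) :=
  Scheme.IdealSheafData.support_antitone h

variable (k : Type u) [Field k] [X.Over (Spec (CommRingCat.of k))]
  [IsProper (X ↘ Spec (CommRingCat.of k))] [IsIntegral X]
  (hdim : topologicalKrullDim X = ((2 : ℕ) : WithBot ℕ∞))

include k hdim in
/-- Curves through the points of a divisor. -/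
theorem exists_curve_le {R : X.IdealSheafData} (hR : BlowUp.IsEffCartierIdeal R) {x : X} (hx : x ∈ R.support) :
    ∃ C : X.IdealSheafData, IsIntegral C.subscheme ∧ topologicalKrullDim (C.support : Set X) = 1 ∧ R ≤ C ∧
      x ∈ C.support := by
  obtain ⟨ξ, hξR, hξx, hξ⟩ := AffCompl.exists_curve_point k hdim hR hx
  haveI := ConnCompl.isIntegral_vanishing (isClosed_closure (s := ({ξ} : Set X))) isIrreducible_singleton.closure
  have hs : ((Scheme.IdealSheafData.vanishingIdeal (⟨closure ({ξ} : Set X), isClosed_closure⟩ : Closeds X)).support : Set X) =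
      closure {ξ} := by
    rw [Scheme.IdealSheafData.coe_support_vanishingIdeal]; rfl
  refine ⟨Scheme.IdealSheafData.vanishingIdeal ⟨closure ({ξ} : Set X), isClosed_closure⟩, ‹_›, ?_,
    le_of_support_subset inferInstance ?_, ?_⟩
  · rw [hs, VarDim.topologicalKrullDim_closure_singleton (X ↘ Spec (CommRingCat.of k)) ξ, hξ]
    exact Nat.cast_one
  · rw [hs]
    exact R.support.isClosed.closure_subset_iff.2 (Set.singleton_subset_iff.2 hξR)
  · show x ∈ (_ : Set X)
    rw [hs]
    exact specializes_iff_mem_closure.1 hξx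

include k hdim in
theorem exists_curve_of_ne_top {R : X.IdealSheafData} (hR : BlowUp.IsEffCartierIdeal R) (hne : R ≠ ⊤) :
    ∃ C : X.IdealSheafData, IsIntegral C.subscheme ∧ topologicalKrullDim (C.support : Set X) = 1 ∧ R ≤ C := by
  obtain ⟨x, hx⟩ : ∃ x, x ∈ (R.support : Set X) := by
    by_contra h
    push Not at h
    exact hne ((Scheme.IdealSheafData.support_eq_bot_iff _).1 (SetLike.coe_injective (Set.eq_empty_of_forall_notMem h)))
  obtain ⟨C, h1, h2, h3, -⟩ := exists_curve_le k hdim hR hx
  exact ⟨C, h1, h2, h3⟩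

omit [X.Over (Spec (CommRingCat.of k))] [IsProper (X ↘ Spec (CommRingCat.of k))] [IsIntegral X] in
theorem exists_quot {R C : X.IdealSheafData} (hR : BlowUp.IsEffCartierIdeal R) (hC : BlowUp.IsEffCartierIdeal C)
    (h : R ≤ C) : ∃ R' : X.IdealSheafData, BlowUp.IsEffCartierIdeal R' ∧ R = C * R' := by
  have hmul := ModPairLib.colon_mul hC h
  exact ⟨_, ModPairLib.isEffCartier_of_mul hC (hmul.symm ▸ hR), hmul.symm.trans (mul_comm _ _)⟩

include hdim in
theorem sym_quotMod_mul {D E : X.IdealSheafData} (hD : BlowUp.IsEffCartierIdeal D) (hE : BlowUp.IsEffCartierIdeal E)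
    {M : X.Modules} (hM : PicF.IsInvertible M) :
    IntSym.sym k [M] (ClSub.quotMod (D * E)) = IntSym.sym k [M] (ClSub.quotMod D) + IntSym.sym k [M] (ClSub.quotMod E) := by
  have h1 := pair_idealMod_mul k hdim hD hE hM
  rw [pair_idealMod k hdim (ModPairLib.isEffCartier_mul hD hE) hM, pair_idealMod k hdim hD hM,
    pair_idealMod k hdim hE hM] at h1
  omega

variable [Smooth (X ↘ Spec (CommRingCat.of k))]

include k hdim in
/-- Induction on effective divisors by adding curves. -/
theorem divisor_induction {P : X.IdealSheafData → Prop} (htop : P ⊤)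
    (hstep : ∀ C R : X.IdealSheafData, IsIntegral C.subscheme → topologicalKrullDim (C.support : Set X) = 1 →
      BlowUp.IsEffCartierIdeal C → BlowUp.IsEffCartierIdeal R → P R → P (C * R))
    {R : X.IdealSheafData} (hR : BlowUp.IsEffCartierIdeal R) : P R := by
  obtain ⟨H, hH⟩ := exists_ample k hdim (regular_of_smooth (X := X) k)
  suffices ∀ n : ℕ, ∀ R : X.IdealSheafData, BlowUp.IsEffCartierIdeal R →
      (IntSym.sym k [H] (ClSub.quotMod R)).natAbs ≤ n → P R from this _ R hR le_rfl
  intro n
  induction n with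
  | zero =>
    intro R hR hn
    by_cases hne : R = ⊤
    · exact hne ▸ htop
    · have := sym_pos_divisor k hdim hR hne hH
      omega
  | succ n ih =>
    intro R hR hn
    by_cases hne : R = ⊤
    · exact hne ▸ htop
    obtain ⟨C, hC, hC1, hle⟩ := exists_curve_of_ne_top k hdim hR hne
    have hCc := isEffCartier_curve k hdim hC hC1 (regular_of_smooth k)
    obtain ⟨R', hR', rfl⟩ := exists_quot hR hCc hle
    refine hstep C R' hC hC1 hCc hR' ?_
    by_cases hne' : R' = ⊤
    · exact hne' ▸ htop
    refine ih R' hR' ?_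
    have h1 := sym_quotMod_mul k hdim hCc hR' hH.1
    have h2 := sym_pos_divisor k hdim hCc (curve_ne_top hdim hC) hH
    have h3 := sym_pos_divisor k hdim hR' hne' hH
    omega

include hdim in
/-- A divisor meeting a class positively has a component doing so. -/
theorem exists_curve_pos {R : X.IdealSheafData} (hR : BlowUp.IsEffCartierIdeal R) {M : X.Modules}
    (hM : PicF.IsInvertible M) :
    0 < pair k (ClSub.idealMod R) M → ∃ (C R' : X.IdealSheafData), IsIntegral C.subscheme ∧
      topologicalKrullDim (C.support : Set X) = 1 ∧ BlowUp.IsEffCartierIdeal C ∧ BlowUp.IsEffCartierIdeal R' ∧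
      R = C * R' ∧ 0 < pair k (ClSub.idealMod C) M := by
  refine divisor_induction k hdim
    (P := fun R => 0 < pair k (ClSub.idealMod R) M → ∃ (C R' : X.IdealSheafData), IsIntegral C.subscheme ∧
      topologicalKrullDim (C.support : Set X) = 1 ∧ BlowUp.IsEffCartierIdeal C ∧ BlowUp.IsEffCartierIdeal R' ∧
      R = C * R' ∧ 0 < pair k (ClSub.idealMod C) M) (fun h => ?_) (fun C R hC hC1 hCc hR ih h => ?_) hR
  · exfalso
    obtain ⟨C, hC⟩ : ∃ C : X.IdealSheafData, BlowUp.IsEffCartierIdeal C := ⟨R, hR⟩
    obtain ⟨D, hD, he⟩ := exists_quot hC hC le_rfl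
    have hD0 : D = ⊤ := ModPairLib.eq_of_mul_eq_mul hC ((mul_comm D C).trans (he.symm.trans (Scheme.IdealSheafData.top_mul C).symm))
    subst hD0
    have h1 := pair_idealMod_mul k hdim hD hD hM
    rw [Scheme.IdealSheafData.top_mul] at h1
    omega
  · by_cases hp : 0 < pair k (ClSub.idealMod C) M
    · exact ⟨C, R, hC, hC1, hCc, hR, rfl, hp⟩
    rw [pair_idealMod_mul k hdim hCc hR hM] at h
    obtain ⟨C', R', h1, h2, h3, h4, h5, h6⟩ := ih (by omega)
    exact ⟨C', C * R', h1, h2, h3, ModPairLib.isEffCartier_mul hCc h4, by rw [h5, mul_left_comm], h6⟩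

end Groth.Agent.SurfRR
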