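import Groth.Agent.SurfRR.Decomp
import Groth.Agent.S1519
import Groth.Agent.AmpleX.QAGenerated

/-!
# Sections on numerically connected divisors
-/

set_option autoImplicit false
set_option linter.style.haveILetI false
set_option linter.unusedSectionVars false
set_option backward.isDefEq.respectTransparency false
set_option backward.isDefEq.respectTransparency.types false
set_option maxHeartbeats 1000000

universe u

open CategoryTheory CategoryTheory.Limits AlgebraicGeometry TopologicalSpace
open scoped Groth.Agent.H23.PicMul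

noncomputable section

namespace Groth.Agent.SurfRR

open Groth.Agent.IntSym (sym)

variable (k : Type u) [Field k] {X : Scheme.{u}} [X.Over (Spec (CommRingCat.of k))]
  [IsProper (X ↘ Spec (CommRingCat.of k))]

theorem hom_eq_zero_of_h0 {F : X.Modules} (hF : Coh.IsCoh F) (h : Module.finrank k (Coh.HH X F 0) = 0)
    (σ : Coh.structureModule X ⟶ F) : σ = 0 := by
  haveI := CurveCohLib.isNoetherian_of_proper (k := k) (X := X)
  haveI := CurveCohLib.finite_HH (k := k) hF 0
  haveI := (Module.finrank_zero_iff (R := k)).1 h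
  exact (RegEpi.evalOneLin_bijective k F).1 (Subsingleton.elim _ _)

theorem finrank_hom (F : X.Modules) :
    Module.finrank k (Coh.structureModule X ⟶ F) = Module.finrank k (Coh.HH X F 0) :=
  (LinearEquiv.ofBijective _ (RegEpi.evalOneLin_bijective k F)).finrank_eq

variable [IsAlgClosed k]

/-- Modules of non-positive degree on an integral curve. -/
theorem h0_curve {C : X.IdealSheafData} (hC : IsIntegral C.subscheme)
    (hC1 : topologicalKrullDim (C.support : Set X) = 1) {L : X.Modules} (hL : PicF.IsInvertible L)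
    (hdeg : sym k [L] (ClSub.quotMod C) ≤ 0) :
    Module.finrank k (Coh.HH X (CohB1.tensorMod (ClSub.quotMod C) L) 0) = 0 ∨
      (sym k [L] (ClSub.quotMod C) = 0 ∧ Nonempty (CohB1.tensorMod (ClSub.quotMod C) L ≅ ClSub.quotMod C)) := by
  haveI := hC
  haveI := CurveCohLib.isNoetherian_of_proper (k := k) (X := X)
  letI : C.subscheme.Over (Spec (CommRingCat.of k)) := ⟨C.subschemeι ≫ (X ↘ Spec (CommRingCat.of k))⟩
  haveI : IsProper (C.subscheme ↘ Spec (CommRingCat.of k)) :=
    inferInstanceAs (IsProper (C.subschemeι ≫ (X ↘ Spec (CommRingCat.of k))))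
  set M := (Scheme.Modules.pullback C.subschemeι).obj L
  have hM : PicF.IsInvertible M := PicClLib.isInvertible_pullback C.subschemeι hL
  obtain ⟨p⟩ := IntNum.push_tensor C.subschemeι (Coh.structureModule C.subscheme) L
  have e : CohB1.tensorMod (ClSub.quotMod C) L ≅ (Coh.push C.subschemeι).obj M :=
    p.symm ≪≫ (Coh.push C.subschemeι).mapIso (CurveTensor.structureTensorIso M)
  have hh : Module.finrank k (Coh.HH X (CohB1.tensorMod (ClSub.quotMod C) L) 0) =
      Module.finrank k (Coh.HH C.subscheme M 0) := by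
    obtain ⟨e'⟩ := QCoh.HH_push_linear C.subschemeι (Coh.toGlobal (X ↘ Spec (CommRingCat.of k)))
      (Coh.toGlobal (C.subscheme ↘ Spec (CommRingCat.of k))) (fun a => rfl)
      (QCoh.isQCoh_pullback C.subschemeι (AmpleVan.isCoh_invertible hL).1) 0
    rw [(S2926.hhIso k e 0).finrank_eq, ← e'.finrank_eq]
  rcases Nat.eq_zero_or_pos (Module.finrank k (Coh.HH C.subscheme M 0)) with h0 | h0
  · exact Or.inl (hh.trans h0)
  refine Or.inr ?_
  haveI := CurveCohLib.isNoetherian_of_proper (k := k) (X := C.subscheme)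
  obtain ⟨τ, hτ⟩ := VolLib.exists_section_of_pos (k := k) h0
  let t : Coh.structureModule C.subscheme ⟶ M := InvX.ofSect τ
  have ht : t ≠ 0 := fun h => hτ (by
    rw [← InvX.one_ofSect τ]
    exact congrArg InvX.one h)
  have hd : topologicalKrullDim C.subscheme = 1 := by
    rw [IntSym.dim_eq_of_range C.subschemeι (Scheme.IdealSheafData.range_subschemeι C), hC1]
  obtain ⟨h1, h2⟩ := CurveDeg.deg_le_and_isIso k hd.le CurveDeg.isInvertible_structureModule hM t ht
  rw [CurveDeg.deg_structureModule] at h1 h2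
  have hsd : sym k [L] (ClSub.quotMod C) = Curv2.deg k C.subscheme M 1 := AffCompl.dg_eq_deg k C.subschemeι hL
  haveI := h2 (by omega)
  exact ⟨by omega, ⟨e ≪≫ (Coh.push C.subschemeι).mapIso (asIso t).symm⟩⟩

/-- Sections are at most one-dimensional on integral curves in non-positive degree. -/
theorem h0_curve_le {C : X.IdealSheafData} (hC : IsIntegral C.subscheme)
    (hC1 : topologicalKrullDim (C.support : Set X) = 1) {L : X.Modules} (hL : PicF.IsInvertible L)
    (hdeg : sym k [L] (ClSub.quotMod C) ≤ 0) :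
    Module.finrank k (Coh.HH X (ClSub.quotMod C) 0) = 1 ∧
      Module.finrank k (Coh.HH X (CohB1.tensorMod (ClSub.quotMod C) L) 0) ≤ 1 := by
  haveI := hC
  have h1 : Module.finrank k (Coh.HH X (ClSub.quotMod C) 0) = 1 := by
    haveI := CurveCohLib.isNoetherian_of_proper (k := k) (X := X)
    letI : C.subscheme.Over (Spec (CommRingCat.of k)) := ⟨C.subschemeι ≫ (X ↘ Spec (CommRingCat.of k))⟩
    haveI : IsProper (C.subscheme ↘ Spec (CommRingCat.of k)) :=
      inferInstanceAs (IsProper (C.subschemeι ≫ (X ↘ Spec (CommRingCat.of k))))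
    obtain ⟨e'⟩ := QCoh.HH_push_linear C.subschemeι (Coh.toGlobal (X ↘ Spec (CommRingCat.of k)))
      (Coh.toGlobal (C.subscheme ↘ Spec (CommRingCat.of k))) (fun a => rfl)
      (QCoh.isQCoh_structureModule (X := C.subscheme)) 0
    exact e'.finrank_eq.symm.trans (finrank_h0_structure k C.subscheme)
  refine ⟨h1, ?_⟩
  rcases h0_curve k hC hC1 hL hdeg with h | ⟨-, ⟨e⟩⟩
  · omega
  · rw [(S2926.hhIso k e 0).finrank_eq, h1]

variable [IsIntegral X] [Smooth (X ↘ Spec (CommRingCat.of k))]
  (hdim : topologicalKrullDim X = ((2 : ℕ) : WithBot ℕ∞))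

/-- The restriction of twisted structure sheaves. -/
abbrev rmap {X : Scheme.{u}} {R J : X.IdealSheafData} (h : R ≤ J) (L : X.Modules) :
    (AmpleVan.tw L).obj (ClSub.quotMod R) ⟶ (AmpleVan.tw L).obj (ClSub.quotMod J) :=
  (AmpleVan.tw L).map (qmap h)

include hdim in
/-- The chain of a numerically connected divisor: the sections restrict injectively to any piece. -/
theorem restrict_injective {Z : X.IdealSheafData}
    (hnc : ∀ Z₁ Z₂ : X.IdealSheafData, FGA.IsEffCartier Z₁ → FGA.IsEffCartier Z₂ → Z₁ ≠ ⊤ → Z₂ ≠ ⊤ →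
      Z = Z₁ * Z₂ → 0 < FGA.intNum k X 2 ![(ClSub.idealMod Z₁), (ClSub.idealMod Z₂)] (Coh.structureModule X))
    {L : X.Modules} (hL : PicF.IsInvertible L)
    (hdeg : ∀ C : X.IdealSheafData, IsIntegral C.subscheme → topologicalKrullDim (C.support : Set X) = 1 → Z ≤ C →
      sym k [L] (ClSub.quotMod C) ≤ 0) :
    ∀ {Y R : X.IdealSheafData}, BlowUp.IsEffCartierIdeal Y → BlowUp.IsEffCartierIdeal R → Y ≠ ⊤ → Z = Y * R →
      ∀ h : Z ≤ Y, Module.finrank k (Coh.HH X (CohB1.tensorMod (ClSub.quotMod Z) L) 0) ≤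
          Module.finrank k (Coh.HH X (CohB1.tensorMod (ClSub.quotMod Y) L) 0) ∧
        ∀ σ : Coh.structureModule X ⟶ (AmpleVan.tw L).obj (ClSub.quotMod Z), σ ≫ rmap h L = 0 → σ = 0 := by
  haveI := CurveCohLib.isNoetherian_of_proper (k := k) (X := X)
  haveI := AmpleVan.isEquivalence_tw hL
  obtain ⟨H, hH⟩ := exists_ample k hdim (regular_of_smooth (X := X) k)
  suffices ∀ n : ℕ, ∀ Y R : X.IdealSheafData, (sym k [H] (ClSub.quotMod R)).natAbs ≤ n →
      BlowUp.IsEffCartierIdeal Y → BlowUp.IsEffCartierIdeal R → Y ≠ ⊤ → Z = Y * R →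
      ∀ h : Z ≤ Y, Module.finrank k (Coh.HH X (CohB1.tensorMod (ClSub.quotMod Z) L) 0) ≤
          Module.finrank k (Coh.HH X (CohB1.tensorMod (ClSub.quotMod Y) L) 0) ∧
        ∀ σ : Coh.structureModule X ⟶ (AmpleVan.tw L).obj (ClSub.quotMod Z), σ ≫ rmap h L = 0 → σ = 0 by
    intro Y R hY hR hYne e h
    exact this _ Y R le_rfl hY hR hYne e h
  intro n
  induction n with
  | zero =>
    intro Y R hn hY hR hYne e h
    by_cases hne : R = ⊤
    · subst hne
      obtain rfl : Z = Y := e.trans (Scheme.IdealSheafData.mul_top Y)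
      refine ⟨le_rfl, fun σ hσ => ?_⟩
      rwa [rmap, qmap_self, CategoryTheory.Functor.map_id, Category.comp_id] at hσ
    · have := sym_pos_divisor k hdim hR hne hH
      omega
  | succ n ih =>
    intro Y R hn hY hR hYne e h
    by_cases hne : R = ⊤
    · subst hne
      obtain rfl : Z = Y := e.trans (Scheme.IdealSheafData.mul_top Y)
      refine ⟨le_rfl, fun σ hσ => ?_⟩
      rwa [rmap, qmap_self, CategoryTheory.Functor.map_id, Category.comp_id] at hσ
    have hIY := (S8914.result Y).2 hY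
    have hIR := (S8914.result R).2 hR
    have hpos := hnc Y R hY hR hYne hne e
    rw [intNum_two k hdim.le hIY hIR, pair_comm k hIY hIR] at hpos
    obtain ⟨C, R', hC, hC1, hCc, hR', he, hCY⟩ := exists_curve_pos k hdim hR hIY hpos
    subst he
    have hYC := ModPairLib.isEffCartier_mul hY hCc
    have hYCle : Y * C ≤ Y := RelCurve.mul_le_left Y C
    have eZ : Z = Y * C * R' := by rw [e, mul_assoc]
    have hZYC : Z ≤ Y * C := eZ ▸ RelCurve.mul_le_left (Y * C) R'
    have hZC : Z ≤ C := e ▸ (RelCurve.mul_le_right' Y (C * R')).trans (RelCurve.mul_le_left C R')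
    have hYCne : Y * C ≠ ⊤ := fun h0 => hYne (top_le_iff.1 (h0 ▸ hYCle))
    have hn' : (sym k [H] (ClSub.quotMod R')).natAbs ≤ n := by
      have h1 := sym_quotMod_mul k hdim hCc hR' hH.1
      have h2 := sym_pos_divisor k hdim hCc (curve_ne_top hdim hC) hH
      by_cases hne' : R' = ⊤
      · subst hne'
        rw [Scheme.IdealSheafData.mul_top] at hn h1
        omega
      · have h3 := sym_pos_divisor k hdim hR' hne' hH
        omega
    obtain ⟨hle, hinj⟩ := ih (Y * C) R' hn' hYC hR' hYCne eZ hZYC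
    obtain ⟨A, a, w, hS, ⟨eA⟩⟩ := exists_shortExact_mul Y C hIY hYCle
    have hS' := hS.map_of_exact (AmpleVan.tw L)
    have hA0 : Module.finrank k (Coh.HH X ((AmpleVan.tw L).obj A) 0) = 0 := by
      have hIL := InvX.isInvertible_tensorMod hIY hL
      have eA' : A ≅ CohB1.tensorMod (ClSub.quotMod C) (ClSub.idealMod Y) := eA ≪≫ (H23.PicMul.comm _ _).some
      have eT : (AmpleVan.tw L).obj A ≅ CohB1.tensorMod (CohB1.tensorMod (ClSub.quotMod C) (ClSub.idealMod Y)) L :=
        (AmpleVan.tw L).mapIso eA'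
      have eAL : (AmpleVan.tw L).obj A ≅ CohB1.tensorMod (ClSub.quotMod C) (CohB1.tensorMod (ClSub.idealMod Y) L) :=
        eT.trans (H23.PicMul.assoc _ _ _).some
      have hneg : sym k [CohB1.tensorMod (ClSub.idealMod Y) L] (ClSub.quotMod C) < 0 := by
        rw [IntSym.sym_tensor_head k hIY hL (List.forall_mem_nil _) (ParShLib.isCoh_quotMod C) (dim_quotMod_le k hdim hCc)]
        rw [pair_idealMod k hdim hCc hIY] at hCY
        have := hdeg C hC hC1 hZC
        omega
      rcases h0_curve k hC hC1 hIL hneg.le with h0 | ⟨h0, -⟩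
      · exact (S2926.hhIso k eAL 0).finrank_eq.trans h0
      · omega
    have hcoh : ∀ D : X.IdealSheafData, Coh.IsCoh (CohB1.tensorMod (ClSub.quotMod D) L) := fun D =>
      AmpleVan.isCoh_tensor (ParShLib.isCoh_quotMod D) (AmpleVan.isCoh_invertible hL)
    have hA : Coh.IsCoh ((AmpleVan.tw L).obj A) := by
      have hA0' : Coh.IsCoh A := SheafHomX.isCoh_of_iso eA.symm
        (AmpleVan.isCoh_tensor (AmpleVan.isCoh_invertible hIY) (ParShLib.isCoh_quotMod C))
      exact AmpleVan.isCoh_tensor hA0' (AmpleVan.isCoh_invertible hL)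
    refine ⟨hle.trans ?_, fun σ hσ => hinj σ ?_⟩
    · have h1 := VolLib.finrank_le_add (k := k) hS' (hcoh (Y * C)) (hcoh Y)
      change Module.finrank k (Coh.HH X (CohB1.tensorMod (ClSub.quotMod (Y * C)) L) 0) ≤
        Module.finrank k (Coh.HH X ((AmpleVan.tw L).obj A) 0) +
          Module.finrank k (Coh.HH X (CohB1.tensorMod (ClSub.quotMod Y) L) 0) at h1
      omega
    · have h1 : (σ ≫ rmap hZYC L) ≫ ((ShortComplex.mk a (qmap hYCle) w).map (AmpleVan.tw L)).g = 0 := by
        show (σ ≫ (AmpleVan.tw L).map (qmap hZYC)) ≫ (AmpleVan.tw L).map (qmap hYCle) = 0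
        rw [Category.assoc, ← Functor.map_comp, qmap_comp]
        exact hσ
      haveI := hS'.mono_f
      rw [← hS'.exact.lift_f (σ ≫ rmap hZYC L) h1, hom_eq_zero_of_h0 k hA hA0 (hS'.exact.lift _ h1), zero_comp]

end Groth.Agent.SurfRR
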