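import Groth.Agent.SurfRR.Proj
import Groth.Agent.GrpFieldLib.TwUnibranch
import Groth.Agent.LineDesc.DisjointMod
import Groth.Agent.NormX.NormalAmple
import Groth.Agent.RegLoc6.Normal
import Groth.Agent.S11559

/-! Smooth proper surfaces with several components: projectivity and Riemann–Roch. -/

set_option autoImplicit false
set_option linter.style.haveILetI false
set_option linter.unusedSectionVars false
set_option backward.isDefEq.respectTransparency false
set_option backward.isDefEq.respectTransparency.types false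
set_option maxHeartbeats 1000000

universe u

open CategoryTheory CategoryTheory.Limits AlgebraicGeometry TopologicalSpace
open Groth.Agent.H23.PicMul
open scoped Groth.Agent.H23.PicMul

noncomputable section

namespace Groth.Agent.SurfRR

variable (k : Type u) [Field k] {X : Scheme.{u}} [X.Over (Spec (CommRingCat.of k))]
  [IsProper (X ↘ Spec (CommRingCat.of k))] [Smooth (X ↘ Spec (CommRingCat.of k))]
  (hcomp : ∀ Z ∈ irreducibleComponents (X : Type u), topologicalKrullDim Z = 2)

include k hcomp in
/-- Smooth proper equidimensional surfaces are projective of relative dimension two. -/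
theorem equidim_setup : SmoothOfRelativeDimension 2 (X ↘ Spec (CommRingCat.of k)) ∧
    topologicalKrullDim X ≤ ((2 : ℕ) : WithBot ℕ∞) ∧
    ∃ (n : ℕ) (ι : X ⟶ CohB1.ProjSpace n k), IsClosedImmersion ι ∧
      ι ≫ CohB1.ProjSpace.toSpec n k = X ↘ Spec (CommRingCat.of k) := by
  haveI := CurveCohLib.isNoetherian_of_proper (k := k) (X := X)
  have hreg : ∀ x : X, IsRegularLocalRing (X.presheaf.stalk x) := fun x =>
    SmoothReg.isRegularLocalRing_stalk_of_mem_smoothLocus (X ↘ Spec (CommRingCat.of k)) (x := x)
      (by rw [(X ↘ Spec (CommRingCat.of k)).smoothLocus_eq_top]; trivial)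
  have hdom : ∀ x : X, IsDomain (X.presheaf.stalk x) := fun x =>
    haveI := hreg x
    RegLoc6.isDomain_of_isRegularLocalRing _
  haveI : ∀ x : X, IsReduced (X.presheaf.stalk x) := fun x => haveI := hdom x; inferInstance
  haveI : IsReduced X := isReduced_of_isReduced_stalk X
  have hu : ∀ x : X, (nilradical (X.presheaf.stalk x)).IsPrime := fun x => by
    haveI := hdom x
    rw [nilradical_eq_zero]; exact Ideal.isPrime_bot
  let I := {Z : Set X // Z ∈ irreducibleComponents (X : Type u)}
  let U : I → X.Opens := fun i => ⟨i.1, GrpFieldLib.TwSplit.isOpen_irreducibleComponent hu i.2⟩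
  let A : I → Scheme.{u} := fun i => (U i : Scheme.{u})
  let j : ∀ i, A i ⟶ X := fun i => (U i).ι
  have hcov : ∀ p : X, ∃ i, p ∈ (j i).opensRange := fun p =>
    ⟨⟨_, irreducibleComponent_mem_irreducibleComponents p⟩, by
      simp only [j, Scheme.Opens.opensRange_ι]; exact mem_irreducibleComponent⟩
  have hdisj : ∀ i i', i ≠ i' → Disjoint (j i).opensRange (j i').opensRange := fun i i' hne => by
    simp only [j, Scheme.Opens.opensRange_ι]
    rw [disjoint_iff_inf_le]
    intro x hx
    exact hne (Subtype.ext (H23.FinCondSch.unique_component (hu x) i.2 i'.2 hx.1 hx.2))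
  have hirr : ∀ i, IsIntegral (A i) := fun i => by
    haveI : IrreducibleSpace (A i) := by
      have h : IsIrreducible (i.1 : Set X) := i.2.1
      haveI : Nonempty (A i) := h.nonempty.to_subtype
      have h2 := h.isPreirreducible.preimage (U i).ι.isOpenEmbedding
      rw [show (U i).ι ⁻¹' (i.1 : Set X) = Set.univ from Set.eq_univ_of_forall fun z => z.2] at h2
      haveI : PreirreducibleSpace (A i) := ⟨h2⟩
      exact ⟨inferInstance⟩
    haveI : IsReduced (A i) := isReduced_of_isOpenImmersion (U i).ι
    exact isIntegral_of_irreducibleSpace_of_isReduced _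
  have hcl : ∀ i, IsClosedImmersion (U i).ι := fun i =>
    IsClosedImmersion.of_isPreimmersion (U i).ι (by
      rw [Scheme.Opens.range_ι]; exact isClosed_of_mem_irreducibleComponents _ i.2)
  have hd : ∀ i, topologicalKrullDim (A i) = ((2 : ℕ) : WithBot ℕ∞) := fun i => by
    exact hcomp _ i.2
  refine ⟨(IsZariskiLocalAtSource.iff_of_iSup_eq_top (P := @SmoothOfRelativeDimension 2) U (by
      refine top_le_iff.1 fun p _ => Opens.mem_iSup.2 ?_
      obtain ⟨i', hi'⟩ := hcov p
      exact ⟨i', by simpa [j] using hi'⟩)).2 fun i' => ?_, ?_, ?_⟩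
  · haveI := hirr i'
    exact SmoothCrit.smoothOfRelativeDimension_dim ((U i').ι ≫ (X ↘ Spec (CommRingCat.of k))) 2 (hd i')
  · rw [VarDim.topologicalKrullDim_eq_iSup_deg (X ↘ Spec (CommRingCat.of k))]
    refine iSup_le fun x => ?_
    have hle : topologicalKrullDim (closure ({x} : Set X)) ≤ topologicalKrullDim (irreducibleComponent x) :=
      H23.TopDim.dim_le_dim_of_subset (isClosed_irreducibleComponent.closure_subset_iff.2
        (Set.singleton_subset_iff.2 mem_irreducibleComponent))
    rw [VarDim.topologicalKrullDim_closure_singleton (X ↘ Spec (CommRingCat.of k)),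
      hcomp _ (irreducibleComponent_mem_irreducibleComponents x)] at hle
    exact hle
  · have hH : ∀ i, ∃ H : (A i).Modules, CohB1.IsAmple H := fun i => by
      letI : (A i).Over (Spec (CommRingCat.of k)) := ⟨(U i).ι ≫ (X ↘ Spec (CommRingCat.of k))⟩
      haveI := hcl i
      haveI := hirr i
      haveI : IsProper ((A i) ↘ Spec (CommRingCat.of k)) :=
        inferInstanceAs (IsProper ((U i).ι ≫ (X ↘ Spec (CommRingCat.of k))))
      refine exists_ample k (hd i) fun z => ?_
      haveI := hreg ((U i).ι z)
      exact IsRegularLocalRing.of_ringEquiv (asIso ((U i).ι.stalkMap z)).commRingCatIsoToRingEquiv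
    choose H hH using hH
    obtain ⟨M, hM, hMc⟩ := LineDesc.exists_invertible_of_disjoint j hcov hdisj (fun i => PicF.cl (H i))
      (fun i => ⟨H i, rfl, (hH i).1⟩)
    have hamp : CohB1.IsAmple M := by
      refine (S11559.result k X M hM).2 fun Z hZ => ?_
      let i : I := ⟨(Z : Set X), hZ⟩
      let J := Scheme.IdealSheafData.vanishingIdeal Z
      have hr : Set.range J.subschemeι ⊆ Set.range (U i).ι := by
        rw [Scheme.IdealSheafData.range_subschemeι, Scheme.Opens.range_ι,
          Scheme.IdealSheafData.coe_support_vanishingIdeal]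
        rfl
      let l := IsOpenImmersion.lift (U i).ι J.subschemeι hr
      have hl : l ≫ (U i).ι = J.subschemeι := IsOpenImmersion.lift_fac _ _ _
      haveI : IsClosedImmersion (l ≫ (U i).ι) := by rw [hl]; infer_instance
      haveI : IsClosedImmersion l := IsClosedImmersion.of_comp l (U i).ι
      obtain ⟨e⟩ : Nonempty ((Scheme.Modules.pullback (U i).ι).obj M ≅ H i) := cl_eq_iff.1 (hMc i)
      exact AmpleX.isAmple_of_iso ((Scheme.Modules.pullback l).mapIso e.symm ≪≫
        (Scheme.Modules.pullbackComp l (U i).ι).app M ≪≫ (Scheme.Modules.pullbackCongr hl).app M)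
        (NormX.isAmple_pullback_affine l (hH i))
    obtain ⟨d, n, ι, -, hι, hf, -⟩ := InvFam.exists_closed_embedding k hamp
    exact ⟨n, ι, hι, hf⟩

include k hcomp in
/-- Riemann–Roch without connectedness. -/
theorem riemann_roch_equidim {W : X.Modules} (hW : ExtPow.IsExtPow 2 (Omega.sheaf (X ↘ Spec (CommRingCat.of k))) W)
    {L : X.Modules} (hL : PicF.IsInvertible L) :
    2 * Curv2.euler k X L = pair k L L - pair k L W + 2 * Curv2.euler k X (Coh.structureModule X) := by
  obtain ⟨hrel, hd, n, ι, hι, hk⟩ := equidim_setup k hcomp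
  haveI := hι
  haveI := hrel
  haveI := CurveCohLib.isNoetherian_of_proper (k := k) (X := X)
  haveI : X.IsSeparated := AmpleVan.isSeparated_of_proper (A := k)
  haveI : HasExt.{u} X.Modules := IsGrothendieckAbelian.hasExt _
  have hWi : PicF.IsInvertible W := ExtShX.SmDual.isInvertible_top ι hk hW
  have h3 : ∀ {M : X.Modules}, Coh.IsQCoh M → Curv2.euler k X M = (Module.finrank k (Coh.HH X M 0) : ℤ) -
      Module.finrank k (Coh.HH X M 1) + Module.finrank k (Coh.HH X M 2) := fun hM => by
    rw [CurveCohLib.euler_eq_sum (k := k) (N := 3) fun i hi =>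
      Snapper.subsingleton_HH_of_dim_le hd hM (by omega)]
    simp [Finset.sum_range_succ, sub_eq_add_neg]
  have hdual : ∀ {L L' : X.Modules}, PicF.IsInvertible L → PicF.IsInvertible L' →
      (CohB1.tensorMod L L' ≅ Coh.structureModule X) →
      Curv2.euler k X L = Curv2.euler k X (CohB1.tensorMod W L') := by
    intro L L' hL hL' u
    have hq : ∀ q, q ≤ 2 → Module.finrank k (Coh.HH X L q) =
        Module.finrank k (Coh.HH X (CohB1.tensorMod W L') (2 - q)) := fun q hq => by
      obtain ⟨e⟩ := (ExtShX.SmDual.duality ι hk hW L (AmpleVan.isCoh_invertible hL) (2 - q)).1 (Nat.sub_le 2 q)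
      obtain ⟨e'⟩ := PnDual.nonempty_ext_linearEquiv_HH (A := k) (H23.PullPush.isFinLocFree_of_isInvertible hL) W (2 - q)
      obtain ⟨c⟩ := WedgeX.nonempty_hom_invertible hL u W
      rw [show 2 - (2 - q) = q by omega] at e
      have h := (e.symm ≪≫ₗ e' ≪≫ₗ S2926.hhIso k c (2 - q)).finrank_eq
      rwa [Subspace.dual_finrank_eq] at h
    rw [h3 (AmpleVan.isCoh_invertible hL).1,
      h3 (AmpleVan.isCoh_invertible (InvX.isInvertible_tensorMod hWi hL')).1,
      hq 0 (by norm_num), hq 1 (by norm_num), hq 2 le_rfl]
    show (Module.finrank k (Coh.HH X _ 2) : ℤ) - Module.finrank k (Coh.HH X _ 1) + Module.finrank k (Coh.HH X _ 0) = _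
    ring
  obtain ⟨L', hL', ⟨u⟩⟩ := H23.PicInv.exists_inverse hL
  have hO := InvX.isInvertible_structureModule (X := X)
  have uO : CohB1.tensorMod (Coh.structureModule X) (Coh.structureModule X) ≅ Coh.structureModule X :=
    CurveTensor.structureTensorIso (Coh.structureModule X)
  have h1 := hdual hL hL' u
  have h2 := hdual hO hO uO
  obtain ⟨eW⟩ : Nonempty (CohB1.tensorMod W (Coh.structureModule X) ≅ W) := cl_eq_iff.1 (by
    rw [cl_tensor, ← H23.PicMul.one_def, mul_one])
  rw [CurveCohLib.euler_congr (k := k) eW] at h2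
  have h3 := euler_tensor k (L := W) hL'
  have h4 := euler_tensor k (L := L) hL'
  rw [CurveCohLib.euler_congr (k := k) u] at h4
  have h5 : pair k W L' = - pair k W L := by
    rw [pair_comm k hWi hL', pair_inverse k hd hL hL' u hWi, pair_comm k hL hWi]
  have h6 : pair k L L' = - pair k L L := by
    rw [pair_comm k hL hL', pair_inverse k hd hL hL' u hL]
  have h7 := pair_comm k hL hWi
  linarith

end Groth.Agent.SurfRR
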