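import Groth.Agent.SurfRR.CastSev
import Groth.Agent.CurveBC.Main
import Groth.Agent.AVFrobLib.CardPoints
import Groth.Agent.GeomField.GlobalFunctions
import Groth.Agent.S1184
import Groth.Agent.ExtShX.Divisor
import Groth.Agent.NefTest.Basic

/-!
# Graphs of endomorphisms of a curve on its square
-/

set_option autoImplicit false
set_option linter.style.haveILetI false
set_option linter.unusedSectionVars false
set_option backward.isDefEq.respectTransparency false
set_option backward.isDefEq.respectTransparency.types false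
set_option maxHeartbeats 1000000

universe u

open CategoryTheory CategoryTheory.Limits AlgebraicGeometry TopologicalSpace

noncomputable section

namespace Groth.Agent.SurfRR

variable (k : Type u) [Field k] [IsAlgClosed k]

attribute [local instance] GeomField.globalAlgebra in
/-- A finite reduced scheme has as many sections as its Euler characteristic. -/
theorem euler_eq_card (Z : Scheme.{u}) [Z.Over (Spec (CommRingCat.of k))]
    [IsFinite (Z ↘ Spec (CommRingCat.of k))] [IsReduced Z] :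
    Curv2.euler k Z (Coh.structureModule Z) =
      Nat.card {p : Spec (CommRingCat.of k) ⟶ Z // p ≫ Z ↘ Spec (CommRingCat.of k) = 𝟙 _} := by
  haveI : IsAffine Z := isAffine_of_isAffineHom (Z ↘ Spec (CommRingCat.of k))
  let φ : CommRingCat.of k ⟶ Γ(Z, ⊤) := (Scheme.ΓSpecIso (CommRingCat.of k)).inv ≫ (Z ↘ Spec (CommRingCat.of k)).appTop
  have hφ : Spec.map φ = Z.isoSpec.inv ≫ Z ↘ Spec (CommRingCat.of k) := by
    rw [← Scheme.isoSpec_inv_naturality, Scheme.isoSpec_Spec_inv, ← Spec.map_comp]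
  have h1 : IsFinite (Spec.map φ) := by rw [hφ]; infer_instance
  haveI : Module.Finite k Γ(Z, ⊤) := by rw [IsFinite.SpecMap_iff] at h1; exact h1
  haveI : _root_.IsReduced Γ(Z, ⊤) := inferInstance
  let toAlg : {p : Spec (CommRingCat.of k) ⟶ Z // p ≫ Z ↘ Spec (CommRingCat.of k) = 𝟙 _} ≃ (Γ(Z, ⊤) →ₐ[k] k) :=
    { toFun := fun t =>
        { (Spec.preimage (t.1 ≫ Z.isoSpec.hom)).hom with
          commutes' := fun r => by
            have h : φ ≫ Spec.preimage (t.1 ≫ Z.isoSpec.hom) = 𝟙 (CommRingCat.of k) := by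
              apply Spec.map_injective
              rw [Spec.map_comp, Spec.map_preimage, hφ, Spec.map_id, Category.assoc, Iso.hom_inv_id_assoc]
              exact t.2
            exact congrArg (fun ψ => ψ.hom r) h }
      invFun := fun χ => ⟨Spec.map (CommRingCat.ofHom χ.toRingHom) ≫ Z.isoSpec.inv, by
        rw [Category.assoc, ← hφ, ← Spec.map_comp]
        refine Eq.trans (congrArg Spec.map (CommRingCat.hom_ext (RingHom.ext fun r => χ.commutes r) :
          φ ≫ CommRingCat.ofHom χ.toRingHom = 𝟙 (CommRingCat.of k))) ?_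
        exact Spec.map_id _⟩
      left_inv := fun t => by
        apply Subtype.ext
        show Spec.map (Spec.preimage (t.1 ≫ Z.isoSpec.hom)) ≫ Z.isoSpec.inv = t.1
        rw [Spec.map_preimage, Category.assoc, Iso.hom_inv_id, Category.comp_id]
      right_inv := fun χ => by
        refine AlgHom.ext fun c => ?_
        show (Spec.preimage ((Spec.map (CommRingCat.ofHom χ.toRingHom) ≫ Z.isoSpec.inv) ≫ Z.isoSpec.hom)).hom c = χ c
        rw [Category.assoc, Iso.inv_hom_id, Category.comp_id, Spec.preimage_map]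
        rfl }
  rw [Nat.card_congr toAlg, AVFrobLib.card_algHom_eq_finrank_of_isReduced, ← GeomField.finrank_HH_zero k Z]
  have hone : (Z ↘ Spec (CommRingCat.of k)) ⁻¹' {IsLocalRing.closedPoint k} = Set.univ :=
    Set.eq_univ_of_forall fun z => (Subsingleton.elim (α := PrimeSpectrum k) _ _ : _ = IsLocalRing.closedPoint k)
  haveI : Finite Z := Set.finite_univ_iff.1 (hone ▸ (Z ↘ Spec (CommRingCat.of k)).finite_preimage_singleton _)
  haveI : DiscreteTopology Z := by
    have h := (Z ↘ Spec (CommRingCat.of k)).isDiscrete_preimage_singleton (IsLocalRing.closedPoint k)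
    rw [hone] at h
    exact isDiscrete_univ_iff.1 h
  rw [CurveCohLib.euler_eq_sum (k := k) (N := 1) fun i hi => by
    obtain ⟨j, rfl⟩ := Nat.exists_eq_add_of_le' hi
    exact CurveVanish.subsingleton_HH_of_finite (X := Z) (Set.toFinite Set.univ) (fun x _ => isClosed_discrete _)
      (fun x hx => absurd (Set.mem_univ x) hx) j]
  simp

variable {C : Scheme.{u}} [C.Over (Spec (CommRingCat.of k))] [IsProper (C ↘ Spec (CommRingCat.of k))]
  [Smooth (C ↘ Spec (CommRingCat.of k))] [IsIntegral C]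

local notation "πC" => (C ↘ Spec (CommRingCat.of k))

/-- The graph bound: `(N - d - 1)² ≤ 4 g² d`. -/
theorem graph_bound (hC : topologicalKrullDim C = 1) (F : C ⟶ C) (hF : F ≫ πC = πC) (hne : F ≠ 𝟙 C)
    (d : ℤ) (hd : ∀ M : C.Modules, PicF.IsInvertible M →
      Curv2.deg k C ((Scheme.Modules.pullback F).obj M) 1 = d * Curv2.deg k C M 1)
    [IsReduced (FinFr.fixScheme πC F hF)] [Finite (FinFr.fixScheme πC F hF)] :
    ((Nat.card {p : Spec (CommRingCat.of k) ⟶ C // p ≫ πC = 𝟙 _ ∧ p ≫ F = p} : ℤ) - d - 1) ^ 2 ≤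
      4 * (Curv2.genus k C : ℤ) ^ 2 * d := by
  letI : (pullback πC πC).Over (Spec (CommRingCat.of k)) := ⟨pullback.fst _ _ ≫ πC⟩
  obtain ⟨p, hp, -⟩ := GrpSchLib.exists_point_of_smooth πC ⊤ (x := genericPoint C) trivial
  let i₁ : C ⟶ pullback πC πC := pullback.lift (𝟙 C) (πC ≫ p) (by rw [Category.assoc, hp, Category.id_comp, Category.comp_id])
  let i₂ : C ⟶ pullback πC πC := pullback.lift (πC ≫ p) (𝟙 C) (by rw [Category.assoc, hp, Category.id_comp, Category.comp_id])
  have hsc : Curve.IsSmoothProperCurve k C πC := ⟨‹_›, ‹_›, ‹_›, hC⟩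
  obtain ⟨hpr, hsm, hint, hdim, N₁, N₂, hN₁, hN₂, e11, e22, e12, hNd, ⟨u₁⟩, ⟨u₂⟩⟩ :=
    exists_prod_classes_iso k C C hsc hsc p hp p hp i₁ ⟨pullback.lift_fst _ _ _, pullback.lift_snd _ _ _⟩
      i₂ ⟨pullback.lift_snd _ _ _, pullback.lift_fst _ _ _⟩
  haveI := hpr
  haveI := hsm
  haveI := hint
  haveI := CurveCohLib.isNoetherian_of_proper (k := k) (X := pullback πC πC)
  haveI := CurveCohLib.isNoetherian_of_proper (k := k) (X := C)
  let Δ : C ⟶ pullback πC πC := pullback.lift (𝟙 C) (𝟙 C) rfl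
  let Γg : C ⟶ pullback πC πC := pullback.lift (𝟙 C) F (by rw [hF, Category.id_comp])
  haveI : IsClosedImmersion Δ :=
    haveI : IsClosedImmersion (Δ ≫ pullback.fst πC πC) := by rw [pullback.lift_fst]; infer_instance
    IsClosedImmersion.of_comp Δ (pullback.fst πC πC)
  haveI : IsClosedImmersion Γg :=
    haveI : IsClosedImmersion (Γg ≫ pullback.fst πC πC) := by rw [pullback.lift_fst]; infer_instance
    IsClosedImmersion.of_comp Γg (pullback.fst πC πC)
  have hpull : ∀ (j : C ⟶ pullback πC πC), j ≫ pullback.fst πC πC = 𝟙 C → j ≫ (pullback πC πC ↘ Spec (CommRingCat.of k)) = πC :=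
    fun j hj => (Category.assoc _ _ _).symm.trans (by rw [hj, Category.id_comp])
  have hΔ := hpull Δ (pullback.lift_fst _ _ _)
  have hΓ := hpull Γg (pullback.lift_fst _ _ _)
  have hIΔ := (S8914.result _).2 (IntSym.CurveSurface.isEffCartier_ker k hdim (regular_of_smooth k) Δ (by rw [hC, Nat.cast_one]))
  have hIΓ := (S8914.result _).2 (IntSym.CurveSurface.isEffCartier_ker k hdim (regular_of_smooth k) Γg (by rw [hC, Nat.cast_one]))
  have hN1F : ∀ (G : C ⟶ C) (j : C ⟶ pullback πC πC), j ≫ pullback.snd πC πC = G →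
      Curv2.deg k C ((Scheme.Modules.pullback j).obj N₁) 1 =
        Curv2.deg k C ((Scheme.Modules.pullback G).obj (ClSub.idealMod p.ker)) 1 := fun G j hj =>
    CurveRR.deg_congr k ((Scheme.Modules.pullback j).mapIso u₁.symm ≪≫
      (Scheme.Modules.pullbackComp j _).app _ ≪≫ (Scheme.Modules.pullbackCongr hj).app _) 1
  have hN2F : ∀ (j : C ⟶ pullback πC πC), j ≫ pullback.fst πC πC = 𝟙 C →
      Curv2.deg k C ((Scheme.Modules.pullback j).obj N₂) 1 = Curv2.deg k C (ClSub.idealMod p.ker) 1 := fun j hj =>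
    CurveRR.deg_congr k ((Scheme.Modules.pullback j).mapIso u₂.symm ≪≫
      (Scheme.Modules.pullbackComp j _).app _ ≪≫ (Scheme.Modules.pullbackCongr hj).app _ ≪≫
      (Scheme.Modules.pullbackId C).app _) 1
  have hpdeg : Curv2.deg k C (ClSub.idealMod p.ker) 1 = -1 := by
    obtain ⟨hx, hker, -⟩ := CurveEmbed.section_point k p hp
    rw [hker]
    exact CurvePoint.deg_ptMod _ hx k
  -- the four numbers with the fibre classes
  have hΔ1 : pair k N₁ (ClSub.idealMod Δ.ker) = 1 := by
    rw [pair_comm k hN₁ hIΔ, pair_curve k hdim hC Δ hΔ hN₁, hN1F (𝟙 C) Δ (pullback.lift_snd _ _ _),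
      CurveRR.deg_congr k ((Scheme.Modules.pullbackId C).app _) 1]
    exact neg_eq_iff_eq_neg.2 hpdeg
  have hΔ2 : pair k N₂ (ClSub.idealMod Δ.ker) = 1 := by
    rw [pair_comm k hN₂ hIΔ, pair_curve k hdim hC Δ hΔ hN₂, hN2F Δ (pullback.lift_fst _ _ _), hpdeg]
    rfl
  have hΓ1 : pair k N₁ (ClSub.idealMod Γg.ker) = d := by
    rw [pair_comm k hN₁ hIΓ, pair_curve k hdim hC Γg hΓ hN₁, hN1F F Γg (pullback.lift_snd _ _ _),
      hd _ (JacSepPts.isInvertible_ker_section k hC hp), hpdeg]
    ring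
  have hΓ2 : pair k N₂ (ClSub.idealMod Γg.ker) = 1 := by
    rw [pair_comm k hN₂ hIΓ, pair_curve k hdim hC Γg hΓ hN₂, hN2F Γg (pullback.lift_fst _ _ _), hpdeg]
    rfl
  -- the self-intersections
  have hΩ : Curv2.deg k C ((Scheme.Modules.pullback Δ).obj (ClSub.idealMod Δ.ker)) 1 = 2 * (Curv2.genus k C : ℤ) - 2 :=
    (CurveBC.canonical_invariants k C hC (finrank_h0_structure k C)).2
  have hΔΔ : pair k (ClSub.idealMod Δ.ker) (ClSub.idealMod Δ.ker) = -(2 * (Curv2.genus k C : ℤ) - 2) := by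
    rw [pair_curve k hdim hC Δ hΔ hIΔ, hΩ]
  let H : pullback πC πC ⟶ pullback πC πC :=
    pullback.lift (pullback.fst _ _ ≫ F) (pullback.snd _ _) (by rw [Category.assoc, hF, pullback.condition])
  have sq : IsPullback Γg F H Δ := by
    refine IsPullback.of_isLimit' ⟨?_⟩ ?_
    · apply pullback.hom_ext
      · rw [Category.assoc, Category.assoc, pullback.lift_fst, pullback.lift_fst_assoc, Category.id_comp, pullback.lift_fst,
          Category.comp_id]
      · rw [Category.assoc, Category.assoc, pullback.lift_snd, pullback.lift_snd, pullback.lift_snd, Category.comp_id]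
    · refine PullbackCone.IsLimit.mk _ (fun s => s.fst ≫ pullback.fst _ _) (fun s => ?_) (fun s => ?_) (fun s m hm₁ hm₂ => ?_)
      · have h1 := congrArg (· ≫ pullback.fst πC πC) s.condition
        have h2 := congrArg (· ≫ pullback.snd πC πC) s.condition
        simp only [H, Δ, Category.assoc, pullback.lift_fst, pullback.lift_snd, Category.comp_id] at h1 h2
        apply pullback.hom_ext
        · simp [Γg]
        · simp only [Γg, Category.assoc, pullback.lift_snd]
          exact h1.trans h2.symm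
      · have h1 := congrArg (· ≫ pullback.fst πC πC) s.condition
        simp only [H, Δ, Category.assoc, pullback.lift_fst, Category.comp_id] at h1
        simpa [Category.assoc] using h1
      · rw [← hm₁]
        simp [Γg]
  have hΓΓ : pair k (ClSub.idealMod Γg.ker) (ClSub.idealMod Γg.ker) = -(d * (2 * (Curv2.genus k C : ℤ) - 2)) := by
    have hker : Γg.ker = Δ.ker.comap H := FComplLib.ker_of_isPullback sq
    obtain ⟨e⟩ := CurveAlgEqLib.nonempty_pullback_idealMod H hIΔ (hker ▸ hIΓ)
    rw [pair_curve k hdim hC Γg hΓ hIΓ, CurveRR.deg_congr k ((Scheme.Modules.pullback Γg).mapIso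
      (eqToIso (by rw [hker]) ≪≫ e.symm) ≪≫ (Scheme.Modules.pullbackComp Γg H).app _ ≪≫
      (Scheme.Modules.pullbackCongr sq.w).app _ ≪≫ ((Scheme.Modules.pullbackComp F Δ).app _).symm) 1, Functor.comp_obj,
      hd _ (PicClLib.isInvertible_pullback Δ hIΔ), hΩ]
  -- the fixed points
  let Z := FinFr.fixScheme πC F hF
  let j : Z ⟶ C := pullback.snd _ _
  have sqZ : IsPullback j (pullback.fst Γg Δ) Δ Γg := (IsPullback.of_hasPullback Γg Δ).flip
  haveI : IsClosedImmersion j := MorphismProperty.of_isPullback (P := @IsClosedImmersion) sqZ.flip inferInstance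
  letI : Z.Over (Spec (CommRingCat.of k)) := ⟨j ≫ πC⟩
  haveI : IsProper (Z ↘ Spec (CommRingCat.of k)) := inferInstanceAs (IsProper (j ≫ πC))
  haveI : IsFinite (Z ↘ Spec (CommRingCat.of k)) := by
    haveI : LocallyQuasiFinite (Z ↘ Spec (CommRingCat.of k)) := LocallyQuasiFinite.of_finite_preimage_singleton _ fun _ => Set.toFinite _
    exact IsFinite.of_isProper_of_locallyQuasiFinite _
  have hN : Curv2.euler k C (ClSub.quotMod j.ker) =
      (Nat.card {p : Spec (CommRingCat.of k) ⟶ C // p ≫ πC = 𝟙 _ ∧ p ≫ F = p} : ℤ) := by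
    obtain ⟨eZ⟩ := ExtShX.nonempty_push_iso_quotMod j
    have hjF : j ≫ F = j := by
      rw [show j = pullback.snd Γg Δ from rfl, ← ZetaLib.fst_eq_snd hF]
      exact ZetaLib.incl_comp hF
    have hfs : pullback.fst Γg Δ = j := ZetaLib.fst_eq_snd hF
    have hlift : ∀ q : {p : Spec (CommRingCat.of k) ⟶ C // p ≫ πC = 𝟙 _ ∧ p ≫ F = p}, q.1 ≫ Γg = q.1 ≫ Δ := fun q => by
      apply pullback.hom_ext
      · rw [Category.assoc, Category.assoc, pullback.lift_fst, pullback.lift_fst]
      · rw [Category.assoc, Category.assoc, pullback.lift_snd, pullback.lift_snd, Category.comp_id, q.2.2]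
    let up : {p : Spec (CommRingCat.of k) ⟶ C // p ≫ πC = 𝟙 _ ∧ p ≫ F = p} →
        {q : Spec (CommRingCat.of k) ⟶ Z // q ≫ Z ↘ Spec (CommRingCat.of k) = 𝟙 _} := fun q =>
      ⟨pullback.lift q.1 q.1 (hlift q), by
        show pullback.lift q.1 q.1 (hlift q) ≫ j ≫ πC = 𝟙 _
        rw [← Category.assoc, show pullback.lift q.1 q.1 (hlift q) ≫ j = q.1 from pullback.lift_snd _ _ _]
        exact q.2.1⟩
    let down : {q : Spec (CommRingCat.of k) ⟶ Z // q ≫ Z ↘ Spec (CommRingCat.of k) = 𝟙 _} →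
        {p : Spec (CommRingCat.of k) ⟶ C // p ≫ πC = 𝟙 _ ∧ p ≫ F = p} := fun q =>
      ⟨q.1 ≫ j, (Category.assoc _ _ _).trans q.2, by rw [Category.assoc, hjF]⟩
    have hl : ∀ q, up (down q) = q := fun q => by
      apply Subtype.ext
      apply pullback.hom_ext
      · exact (pullback.lift_fst _ _ _).trans (congrArg (q.1 ≫ ·) hfs.symm)
      · exact pullback.lift_snd _ _ _
    have hr : ∀ q, down (up q) = q := fun q => Subtype.ext (pullback.lift_snd _ _ _)
    rw [CurveCohLib.euler_congr (k := k) eZ, ← Nat.card_congr (Equiv.mk down up hl hr)]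
    exact (IntNum.euler_push k j rfl QCoh.isQCoh_structureModule).trans (euler_eq_card k Z)
  have hJ : PicF.IsInvertible (ClSub.idealMod (Γg.ker.comap Δ)) := by
    rw [← FComplLib.ker_of_isPullback sqZ]
    haveI : SmoothOfRelativeDimension 1 πC := SmoothCrit.smoothOfRelativeDimension_dim πC 1 (by rw [hC, Nat.cast_one])
    haveI : Finite j.ker.subscheme := Finite.of_surjective (fun z : Z => j.toImage z) j.toImage.surjective
    haveI : LocallyQuasiFinite (j.ker.subschemeι ≫ πC) :=
      LocallyQuasiFinite.of_finite_preimage_singleton _ fun _ => Set.toFinite _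
    exact (S8914.result _).2 ((S1184.result πC j.ker).1.2 ⟨inferInstance, inferInstance, inferInstance⟩).1
  have hΔΓ : pair k (ClSub.idealMod Δ.ker) (ClSub.idealMod Γg.ker) =
      (Nat.card {p : Spec (CommRingCat.of k) ⟶ C // p ≫ πC = 𝟙 _ ∧ p ≫ F = p} : ℤ) := by
    obtain ⟨e⟩ := CurveAlgEqLib.nonempty_pullback_idealMod Δ hIΓ hJ
    have hk : j.ker = Γg.ker.comap Δ := FComplLib.ker_of_isPullback sqZ
    rw [pair_curve k hdim hC Δ hΔ hIΓ, CurveRR.deg_congr k e 1, ← hk, ← hN]
    unfold Curv2.deg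
    rw [euler_idealMod k j.ker]
    push_cast
    ring
  have h := (castelnuovo_severi k hdim hN₁ hN₂ e11 e22 e12 hIΔ hIΓ).2
  rw [hΔΓ, hΔ1, hΔ2, hΓ1, hΓ2, hΔΔ, hΓΓ] at h
  linarith

end Groth.Agent.SurfRR
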