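import Groth.Agent.SurfRR.Index
import Groth.Agent.AffCompl.Main
import Groth.Agent.InvFam.Embed
import Groth.Agent.SmoothReg.Scheme

/-!
# Regular proper surfaces are projective
-/

set_option autoImplicit false
set_option linter.style.haveILetI false
set_option linter.unusedSectionVars false
set_option backward.isDefEq.respectTransparency false
set_option backward.isDefEq.respectTransparency.types false
set_option maxHeartbeats 800000

universe u

open CategoryTheory CategoryTheory.Limits AlgebraicGeometry TopologicalSpace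

noncomputable section

namespace Groth.Agent.SurfRR

variable (k : Type u) [Field k] {X : Scheme.{u}} [X.Over (Spec (CommRingCat.of k))]
  [IsProper (X ↘ Spec (CommRingCat.of k))] [IsIntegral X]

include k in
/-- A regular proper surface has an ample invertible module. -/
theorem exists_ample (hdim : topologicalKrullDim X = ((2 : ℕ) : WithBot ℕ∞))
    (hreg : ∀ x : X, IsRegularLocalRing (X.presheaf.stalk x)) : ∃ H : X.Modules, CohB1.IsAmple H := by
  obtain ⟨x⟩ : Nonempty X := inferInstance
  obtain ⟨_, ⟨U, hU, rfl⟩, hxU, -⟩ := X.isBasis_affineOpens.exists_subset_of_mem_open (Set.mem_univ x) isOpen_univ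
  obtain ⟨I, hI, -, hamp⟩ := AffCompl.exists_ample k hdim hreg hU ⟨x, hxU⟩
  obtain ⟨L, _, hL, hLI, -⟩ := AffCompl.exists_section_of_divisor I hI
  exact ⟨L, hamp L hL hLI⟩

theorem regular_of_smooth [Smooth (X ↘ Spec (CommRingCat.of k))] :
    ∀ x : X, IsRegularLocalRing (X.presheaf.stalk x) := fun x =>
  SmoothReg.isRegularLocalRing_stalk_of_mem_smoothLocus (X ↘ Spec (CommRingCat.of k)) (x := x)
    (by rw [(X ↘ Spec (CommRingCat.of k)).smoothLocus_eq_top]; trivial)

/-- A regular proper surface is projective. -/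
theorem exists_proj (hdim : topologicalKrullDim X = ((2 : ℕ) : WithBot ℕ∞))
    (hreg : ∀ x : X, IsRegularLocalRing (X.presheaf.stalk x)) :
    ∃ (n : ℕ) (ι : X ⟶ CohB1.ProjSpace n k), IsClosedImmersion ι ∧
      ι ≫ CohB1.ProjSpace.toSpec n k = X ↘ Spec (CommRingCat.of k) := by
  obtain ⟨H, hH⟩ := exists_ample k hdim hreg
  obtain ⟨d, n, ι, -, hι, hf, -⟩ := InvFam.exists_closed_embedding k hH
  exact ⟨n, ι, hι, hf⟩

/-- A smooth proper surface is projective. -/
theorem exists_proj_smooth [Smooth (X ↘ Spec (CommRingCat.of k))]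
    (hdim : topologicalKrullDim X = ((2 : ℕ) : WithBot ℕ∞)) :
    ∃ (n : ℕ) (ι : X ⟶ CohB1.ProjSpace n k), IsClosedImmersion ι ∧
      ι ≫ CohB1.ProjSpace.toSpec n k = X ↘ Spec (CommRingCat.of k) :=
  exists_proj k hdim (regular_of_smooth k)

end Groth.Agent.SurfRR
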